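import Cfsg.Agent.Omega.NO3S.Act.OneT
import Cfsg.Agent.Omega.NO3S.Act.MinMov
import Cfsg.Agent.Omega.NO3S.BetaFF.Act

/-!
# GammaFF, THEOREM ACT (#20049 helper800, form #21206 helper365): the all-good case

`(S, P₀)`, `(S, P)` active for `W = WW V F ≤ S`, `C_Z(P₀) = C_Z(P) = 1` (`BetaFF.Act`), `M = ⟨P₀, P⟩`.

* `isLoc_sup` : `M` is local;
* `NoOverM` and `eq_all` : `zl S M ≤ E` ⟹ nothing in `M` over-offends on `zl S M`, and
  `zl S P₀ = zl S M = zl S P`;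
* `eq_of_good` : `zl S M ≤ E` ⟹ `zl S P = zl S P₀`;
* `zl_le_of` : `zl S M ≤ E` if `V_R^g ≤ E` for all `g ∈ M`, `R ∈ {P₀, P}`.
-/

set_option autoImplicit false
set_option linter.unusedSectionVars false

namespace Cfsg.Agent.Omega.NO3S.AllGood

open Subgroup Cfsg Cfsg.Agent.ZN Cfsg.Agent.ZN.ChoiceBase Cfsg.Agent.Omega.MinPar
open Cfsg.Agent.Omega.FFThm (ElemM OffM NoOverM ConclM StmtM)
open Cfsg.Agent.Omega.NOThreeL.NF (MinOffM)
open Cfsg.Agent.Omega.NOne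
open Cfsg.Agent.Omega.NO3S.BetaFF (Act)
open scoped Pointwise

universe u

variable {G : Type u} [Group G] [Finite G] {S : Sylow 2 G} {P₀ P V F : Subgroup G}

theorem isLoc_sup (a₀ : Act S P₀ V F) (a : Act S P V F) : IsLoc (S : Subgroup G) (P₀ ⊔ P) := by
  refine ⟨a₀.SP.trans le_sup_left, fun h0 => ?_⟩
  have hn : P₀ ⊔ P ≤ normalizer (V : Set G) := sup_le a₀.PV a.PV
  set K : Subgroup G := V ⊓ (P₀ ⊔ P) with hK
  have hKn : P₀ ⊔ P ≤ normalizer (K : Set G) := by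
    intro x hx
    rw [mem_normalizer_iff]
    intro y
    rw [hK, mem_inf, mem_inf]
    refine and_congr ((mem_normalizer_iff.1 (hn hx)) y) ⟨fun hy => mul_mem (mul_mem hx hy) (inv_mem hx), fun hy => ?_⟩
    have h1 := mul_mem (mul_mem (inv_mem hx) hy) hx
    have e : x⁻¹ * (x * y * x⁻¹) * x = y := by group
    rwa [e] at h1
  have h1 : K ≤ o2 (P₀ ⊔ P) := Cfsg.Agent.MinSimple.VModule.le_o2 inf_le_right
    (a₀.hyp.V_isPGroup.to_le inf_le_left) hKn
  have h2 : zl (S : Subgroup G) P₀ ≤ K := by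
    refine le_inf a₀.LV ?_
    exact ((a₀.par.isLoc.zl_le S a₀.char2).trans (Cfsg.Agent.MinSimple.VModule.zc_le _)).trans
      ((a₀.par.isLoc.o2_le S).trans (a₀.SP.trans le_sup_left))
  apply a₀.mov
  have h3 : zl (S : Subgroup G) P₀ = ⊥ := le_bot_iff.1 (h0 ▸ h2.trans h1)
  rw [h3]
  intro x _
  rw [mem_centralizer_iff]
  intro y hy
  rw [mem_bot.1 hy, one_mul, mul_one]

/-- `W` offends on every nontrivial `Y ≤ E` which it moves -/
theorem offM_of_le (a₀ : Act S P₀ V F) {Y : Subgroup G} (hY : Y ≤ Flat.EE V F)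
    (hne : ¬ Flat.WW V F ≤ centralizer (Y : Set G)) : OffM Y (Flat.WW V F) where
  sq := fun a ha => centralizer_le (hY.trans inf_le_left) (a₀.hyp.elemM_W.sq a ha)
  comm := fun a ha b hb => centralizer_le (hY.trans inf_le_left) (a₀.hyp.elemM_W.comm a ha b hb)
  ne := hne
  le := FFThm.relIndex_le_iff.2 (a₀.hyp.off_of_le_all hY)

theorem zl_mono {M : Subgroup G} (h : P ≤ M) : zl (S : Subgroup G) P ≤ zl (S : Subgroup G) M := by
  unfold zl
  exact iSup_le fun p => le_iSup (fun g : M => (zc (S : Subgroup G)).map (MulAut.conj (g : G)).toMonoidHom)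
    ⟨p, h p.2⟩

/-- one half -/
theorem eq_half (hFF : StmtM.{u}) (a₀ : Act S P₀ V F) (a : Act S P V F) {M : Subgroup G}
    (hM : IsLoc (S : Subgroup G) M) (hPM : P ≤ M) (no : NoOverM (zl (S : Subgroup G) M) M)
    (h0 : zl (S : Subgroup G) M = zl (S : Subgroup G) P₀) :
    zl (S : Subgroup G) M = zl (S : Subgroup G) P := by
  have hXV : zl (S : Subgroup G) P ≤ zl (S : Subgroup G) P₀ := by
    rw [← h0]
    exact zl_mono hPM
  obtain ⟨B, hB, hmin, hne⟩ := exists_min_mov hFF a₀.char2 S a₀.par a₀.cv a₀.WS a₀.offM hXV a.mov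
  rw [← h0] at hmin
  exact eq_zl_of_min hFF a₀.char2 S hM a.par hPM a.cv no (a.ff hFF).1 hmin hne

/-- **The all-good case.** -/
theorem eq_all (hFF : StmtM.{u}) (a₀ : Act S P₀ V F) (a : Act S P V F)
    (hE : zl (S : Subgroup G) (P₀ ⊔ P) ≤ Flat.EE V F) :
    NoOverM (zl (S : Subgroup G) (P₀ ⊔ P)) (P₀ ⊔ P) ∧
      zl (S : Subgroup G) (P₀ ⊔ P) = zl (S : Subgroup G) P₀ ∧
      zl (S : Subgroup G) (P₀ ⊔ P) = zl (S : Subgroup G) P := by
  set M : Subgroup G := P₀ ⊔ P with hMd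
  have hM := isLoc_sup a₀ a
  have hP₀M : P₀ ≤ M := le_sup_left
  have hPM : P ≤ M := le_sup_right
  have hmov : ¬ Flat.WW V F ≤ centralizer (zl (S : Subgroup G) M : Set G) := fun h1 =>
    a₀.mov (h1.trans (centralizer_le (zl_mono hP₀M)))
  obtain ⟨no, P', hP', he, -⟩ := eq_zl hFF a₀.char2 S hM (TT := {P₀, P})
    (by
      rintro R (rfl | rfl)
      · exact ⟨a₀.par, hP₀M⟩
      · exact ⟨a.par, hPM⟩)
    (sup_le (le_sSup (Or.inl rfl)) (le_sSup (Or.inr rfl)))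
    (by
      rintro R (rfl | rfl)
      · exact a₀.cv
      · exact a.cv)
    ⟨_, a₀.WP.trans hP₀M, offM_of_le a₀ hE hmov⟩
  refine ⟨no, ?_⟩
  rcases hP' with rfl | rfl
  · exact ⟨he, eq_half hFF a₀ a hM hPM no he⟩
  · exact ⟨eq_half hFF a a₀ hM hP₀M no he, he⟩

theorem eq_of_good (hFF : StmtM.{u}) (a₀ : Act S P₀ V F) (a : Act S P V F)
    (hE : zl (S : Subgroup G) (P₀ ⊔ P) ≤ Flat.EE V F) : zl (S : Subgroup G) P = zl (S : Subgroup G) P₀ := by
  obtain ⟨-, h1, h2⟩ := eq_all hFF a₀ a hE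
  exact h2.symm.trans h1

/-- `zl S M ≤ E` if all lines of `M` are in `E` -/
theorem zl_le_of {M E : Subgroup G} {R : Subgroup G}
    (hE : ∀ g ∈ M, MulAut.conj g • zl (S : Subgroup G) R ≤ E) : zl (S : Subgroup G) M ≤ E := by
  unfold zl
  refine iSup_le fun g => ?_
  have h1 : zc (S : Subgroup G) ≤ zl (S : Subgroup G) R := Cfsg.Agent.MinSimple.VModule.zc_le_zl _ _
  refine le_trans ?_ (hE g g.2)
  rintro _ ⟨x, hx, rfl⟩
  exact ⟨x, h1 hx, rfl⟩

end Cfsg.Agent.Omega.NO3S.AllGood
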