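import Cfsg.Agent.Omega.NO3S.Act.MinMov

/-!
# GammaFF, THEOREM N (#21337 helper422), fact (D')

`P ∈ P*(S)` with `C_{V_P}(O²(P)) = 1`; `A, B ≤ S` minimal offenders on `V_P` with the same centre
`[V_P, A] = [V_P, B]` induce the same group on `V_P` (`same`): a full root group, resp. a transposition.
-/

set_option autoImplicit false
set_option linter.unusedSectionVars false

namespace Cfsg.Agent.Omega.NOThreeL.NF.NatR

open Subgroup Cfsg Cfsg.Agent.ZN Cfsg.Agent.ZN.ChoiceBase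
open Cfsg.Agent.Omega.FFThm (ElemM OffM NoOverM ConclM NatKM ActsSL)
open Cfsg.Agent.Omega.NatPair
open Cfsg.Agent.Lib.SL2Mat
open scoped commutatorElement

universe u

variable {G : Type u} [Group G] {F : Type} [Field F] {S P W : Subgroup G} {k : ℕ}

/-- **(D')**, natural case -/
theorem same [Finite G] [CharP F 2] (M : NatKM F S P W ⊥ k) (hPW : P ≤ normalizer (W : Set G)) (hSP : S ≤ P)
    {A B : Subgroup G} (hA : MinOffM W S A) (hB : MinOffM W S B) (he : ⁅W, A⁆ = ⁅W, B⁆) {a : G} (ha : a ∈ A) :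
    ∃ b ∈ B, ∀ x ∈ W, a * x * a⁻¹ = b * x * b⁻¹ := by
  obtain ⟨i, hi⟩ := Rt.of hPW hSP (M := M) hA
  obtain ⟨j, hj⟩ := Rt.of hPW hSP (M := M) hB
  have hij : i = j := by
    rw [hi.comm_eq hPW hSP, hj.comm_eq hPW hSP] at he
    exact ln_injective (M := M) he
  subst hij
  obtain ⟨c, hc⟩ := hi.acts a ha
  obtain ⟨b, hb, hbc⟩ := hj.ex c
  refine ⟨b, hb, fun x hx => ?_⟩
  refine e_inj (M := M) (cmem hPW (hSP (hA.le ha)) hx) (cmem hPW (hSP (hB.le hb)) hx) ?_
  funext l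
  rw [hc x hx l, hbc x hx l]

end Cfsg.Agent.Omega.NOThreeL.NF.NatR

namespace Cfsg.Agent.Omega.NOThreeL.NF.SymRP

open Subgroup Cfsg Cfsg.Agent.ZN Cfsg.Agent.ZN.ChoiceBase
open Cfsg.Agent.Omega.FFThm (ElemM OffM NoOverM ConclM SymK SymKM ActsSym)
open Cfsg.Agent.Omega.Half (Amb)
open Cfsg.Agent.Omega.Half.SymA
open Cfsg.Agent.Omega.NOThreeL.FourLine (mem_zpowers_iff)
open scoped Classical commutatorElement

universe u

variable {G : Type u} [Group G] [Finite G] {S : Sylow 2 G} {P V : Subgroup G} {k m : ℕ}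

/-- **(D')**, symmetric case -/
theorem same (M : SymKM (S : Subgroup G) P V ⊥ k m) (hA : Amb (S : Subgroup G) P V) (hm : 1 ≤ m)
    {A B : Subgroup G} (h₁ : MinOffM V (S : Subgroup G) A) (h₂ : MinOffM V (S : Subgroup G) B)
    (he : ⁅V, A⁆ = ⁅V, B⁆) {a : G} (ha : a ∈ A) : ∃ b ∈ B, ∀ x ∈ V, a * x * a⁻¹ = b * x * b⁻¹ := by
  set N := M.toSymK with hN
  obtain ⟨⟨p, q, hp⟩, -⟩ := exists_ad M hA hm h₁
  obtain ⟨⟨r, s, hr⟩, -⟩ := exists_ad M hA hm h₂
  obtain ⟨c, hc⟩ := exists_isC (M := N) hp.sw.2.1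
  obtain ⟨d, hd⟩ := exists_isC (M := N) hr.sw.2.1
  have hcd : c = d := by
    rw [hp.comm_eq hA hm hc, hr.comm_eq hA hm hd] at he
    have h3 : c ∈ zpowers d := he ▸ mem_zpowers c
    have hd2 : d * d = 1 := sq_one hA hd.1
    obtain ⟨n, hn⟩ := h3
    have hc1 := hc.ne_one hp.sw.1
    rcases Int.even_or_odd n with ⟨j, hj⟩ | ⟨j, hj⟩
    · exfalso
      apply hc1
      change d ^ n = c at hn
      rw [← hn, hj, ← two_mul, zpow_mul]
      have e : d ^ (2 : ℤ) = 1 := by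
        rw [zpow_two]; exact hd2
      rw [e, one_zpow]
    · change d ^ n = c at hn
      rw [← hn, hj, zpow_add_one, zpow_mul]
      have e : d ^ (2 : ℤ) = 1 := by
        rw [zpow_two]; exact hd2
      rw [e, one_zpow, one_mul]
  subst hcd
  -- the pairs are equal
  have hsw : Equiv.swap p q = Equiv.swap r s := by
    have e1 := hc.left hp.sw.1
    have e2 := hc.right hp.sw.1
    have k1 : p = r ∨ p = s := by
      by_contra hcon
      push Not at hcon
      rw [hd.zero hcon.1 hcon.2] at e1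
      exact zero_ne_one e1
    have k2 : q = r ∨ q = s := by
      by_contra hcon
      push Not at hcon
      rw [hd.zero hcon.1 hcon.2] at e2
      exact zero_ne_one e2
    rcases k1 with rfl | rfl <;> rcases k2 with rfl | rfl
    · exact absurd rfl hp.sw.1
    · rfl
    · exact Equiv.swap_comm _ _
    · exact absurd rfl hp.sw.1
  rcases hp.all a ha with h3 | h3
  · refine ⟨1, one_mem _, fun x hx => ?_⟩
    rw [one_mul, inv_one, mul_one, ← mem_centralizer_iff.1 h3 x hx, mul_inv_cancel_right]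
  · obtain ⟨b, hb, hb'⟩ := hr.ex
    rw [← hsw] at hb'
    refine ⟨b, hb, fun x hx => ?_⟩
    have haP : a ∈ P := hA.TH (h₁.le ha)
    have hbP : b ∈ P := hA.TH (h₂.le hb)
    refine inj N (hA.conj_mem haP hx) (hA.conj_mem hbP hx) fun t => ?_
    have e1 := h3 x hx (Equiv.swap p q t)
    have e2 := hb' x hx (Equiv.swap p q t)
    rw [Equiv.swap_apply_self] at e1 e2
    rw [e1, e2]

end Cfsg.Agent.Omega.NOThreeL.NF.SymRP

namespace Cfsg.Agent.Omega.NO3S.AllGood

open Subgroup Cfsg Cfsg.Agent.ZN Cfsg.Agent.ZN.ChoiceBase Cfsg.Agent.Omega.MinPar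
open Cfsg.Agent.Omega.FFThm (ElemM OffM NoOverM ConclM StmtM)
open Cfsg.Agent.Omega.NOThreeL.NF (MinOffM)
open Cfsg.Agent.Omega.FrameFF (cv)
open Cfsg.Agent.ZN.ChoiceSit
open scoped commutatorElement

universe u

variable {G : Type u} [Group G] [Finite G]

/-- **(D')** Minimal offenders with the same centre induce the same group. -/
theorem same (hFF : StmtM.{u}) (hc : IsCharacteristicTwoType G) (S : Sylow 2 G) {P : Subgroup G}
    (hP : IsParS (S : Subgroup G) P) (hcv : cv (S : Subgroup G) P = ⊥) (A B : Subgroup G)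
    (hA : MinOffM (zl (S : Subgroup G) P) (S : Subgroup G) A) (hB : MinOffM (zl (S : Subgroup G) P) (S : Subgroup G) B)
    (he : ⁅zl (S : Subgroup G) P, A⁆ = ⁅zl (S : Subgroup G) P, B⁆) : ∀ a ∈ A, ∃ b ∈ B,
      ∀ x ∈ zl (S : Subgroup G) P, a * x * a⁻¹ = b * x * b⁻¹ := by
  intro a ha
  obtain ⟨-, hC⟩ := hFF G (S : Subgroup G) P (FFThm.syl_of_sylow S hP.le) hP.toIsMinPar (hP.isLoc.char2 S hc)
    ⟨A, hA.le.trans hP.le, hA.off⟩
  have hPW : P ≤ normalizer (zl (S : Subgroup G) P : Set G) :=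
    Cfsg.Agent.MinSimple.VModule.le_normalizer_zl _ _
  rcases hC with ⟨F, _, _, _, k, hk, ⟨M⟩⟩ | ⟨k, n, hk, hn, ⟨M⟩⟩
  · rw [hcv] at M
    exact NOThreeL.NF.NatR.same M hPW hP.le hA hB he ha
  · rw [hcv] at M
    exact NOThreeL.NF.SymRP.same M (Half.amb_of_loc hc S hP.isLoc) (by omega) hA hB he ha

end Cfsg.Agent.Omega.NO3S.AllGood
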