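import Cfsg.Agent.Omega.NOThreeL.NF.Sym
import Cfsg.Agent.Omega.NO3S.Act.OneNat

/-!
# An offender with constant commutators is one transposition (symmetric case)

`M : SymKM S P V ⊥ k m`, `A ≤ S` an offender on `V` with `[x, A] = [y, A]` for all `x, y ∈ V - C(A)`:
then `A` is a minimal offender (`min_of_const`).
-/

set_option autoImplicit false
set_option linter.unusedSectionVars false

namespace Cfsg.Agent.Omega.NOThreeL.NF.SymRP

open Subgroup Cfsg Cfsg.Agent.ZN Cfsg.Agent.ZN.ChoiceBase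
open Cfsg.Agent.Omega.FFThm (ElemM OffM NoOverM ConclM SymK SymKM ActsSym)
open Cfsg.Agent.Omega.Half (Amb)
open Cfsg.Agent.Omega.Half.SymA
open Cfsg.Agent.Omega.NOThreeL.NF.NatR (Const)
open scoped Classical commutatorElement

universe u

variable {G : Type u} [Group G] [Finite G] {S : Sylow 2 G} {P V : Subgroup G} {k m : ℕ}

/-- an offender with constant commutators acts as one transposition -/
theorem ad_of_const (M : SymKM (S : Subgroup G) P V ⊥ k m) (hA : Amb (S : Subgroup G) P V) (hm : 1 ≤ m)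
    {A : Subgroup G} (hAS : A ≤ (S : Subgroup G)) (hoff : OffM V A) (hc : Const V A) :
    ∃ p q, AD M.toSymK A p q := by
  set N := M.toSymK with hN
  obtain ⟨-, hof⟩ := M.offM A hAS hoff
  have hAP : A ≤ P := hAS.trans hA.TH
  have hS2 : IsPGroup 2 (S : Subgroup G) := S.isPGroup'
  -- the element `a` and its transpositions
  have hof' : ∀ a ∈ A, ∃ π : Equiv.Perm (Pt k m), Mv N a π ∧ ∀ r, π r ≠ r →
      r.1 = (π r).1 ∧ π (π r) = r ∧ ∃ b ∈ A, Mv N b (Equiv.swap r (π r)) := by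
    intro a ha
    obtain ⟨τ, hτ, hb⟩ := hof a ha
    refine ⟨pm 1 τ, mv_pm N hτ, ?_⟩
    rintro ⟨i, x⟩ hne
    have hix : τ i x ≠ x := fun h0 => hne (Prod.ext rfl h0)
    obtain ⟨h2, b, hbA, hb⟩ := hb i x hix
    refine ⟨rfl, Prod.ext rfl h2, b, hbA, ?_⟩
    have h1 := mv_pm N hb
    have h2 := pm_swap (k := k) (m := m) (p := (i, x)) (q := (i, τ i x)) rfl
    change pm 1 (Function.update 1 i (Equiv.swap x (τ i x))) = _ at h2
    rw [h2] at h1
    exact h1
  -- a transposition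
  obtain ⟨p, q, hpq, hpq1, b, hb, hπ⟩ : ∃ p q : Pt k m, p ≠ q ∧ p.1 = q.1 ∧ ∃ b ∈ A, Mv N b (Equiv.swap p q) := by
    by_contra hcon
    apply hoff.ne
    intro a ha
    obtain ⟨π, hπ, h1⟩ := hof' a ha
    rw [mem_cent_iff hA (hAP ha) hm hπ]
    ext1 r
    by_contra hne
    obtain ⟨h2, -, b, hb, h3⟩ := h1 r hne
    exact hcon ⟨r, π r, fun h0 => hne h0.symm, h2, b, hb, h3⟩
  have hbP : b ∈ P := hAP hb
  have hsw : Sw N p q := ⟨hpq, hpq1, b, hAS hb, hπ⟩
  -- the test vector `{r, 0}`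
  have htest : ∀ r r' : Pt k m, r ≠ r' → r.1 = r'.1 → (∃ b ∈ A, Mv N b (Equiv.swap r r')) →
      ∃ y, IsC N y r (r.1, 0) ∧ r ≠ (r.1, 0) ∧ E N y r = 1 ∧ E N y r' = 0 ∧ y ∉ centralizer (A : Set G) := by
    rintro r r' hne h1 ⟨b', hb', h2⟩
    have hs : Sw N r r' := ⟨hne, h1, b', hAS hb', h2⟩
    obtain ⟨y, hy⟩ := exists_isC (M := N) (p := r) (q := (r.1, 0)) rfl
    have hr0 : r ≠ (r.1, 0) := fun h3 => hs.nz hA hm (congrArg Prod.snd h3)
    have hr0' : r' ≠ (r.1, 0) := fun h3 => hs.symm.nz hA hm (congrArg Prod.snd h3)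
    have e1 := hy.left hr0
    have e2 := hy.zero hne.symm hr0'
    refine ⟨y, hy, hr0, e1, e2, fun h3 => ?_⟩
    have h4 := eq_of_comm h2 hy.1 (by rw [mem_centralizer_iff.1 h3 b' hb', mul_inv_cancel_right])
    rw [e1, e2] at h4
    exact one_ne_zero h4
  -- all transpositions are `(p q)`
  have huniq : ∀ r r' : Pt k m, r ≠ r' → r.1 = r'.1 → (∃ b ∈ A, Mv N b (Equiv.swap r r')) →
      (p = r ∧ q = r') ∨ (p = r' ∧ q = r) := by
    intro r r' hne h1 hex
    obtain ⟨w, hw, -, ew1, ew2, hwc⟩ := htest p q hpq hpq1 ⟨b, hb, hπ⟩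
    obtain ⟨y, hy, hy0, ey1, ey2, hyc⟩ := htest r r' hne h1 hex
    obtain ⟨b', hb', hb'π⟩ := hex
    have hs' : Sw N r r' := ⟨hne, h1, b', hAS hb', hb'π⟩
    obtain ⟨d, hd, h2⟩ := hc w hw.1 hwc y hy.1 hyc b hb
    obtain ⟨π, hdπ, hπd⟩ := hof' d hd
    have hm1 := hA.conj_mem hbP hw.1
    have hm2 := hA.conj_mem (hAP hd) hy.1
    -- the coordinates of `[w, b]`
    have eL : ∀ t, E N (b * w * b⁻¹ * w⁻¹) t = E N w (Equiv.swap p q t) + E N w t := by
      intro t
      have h3 := hπ w hw.1 (Equiv.swap p q t)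
      rw [Equiv.swap_apply_self] at h3
      rw [E_mul N hm1 (inv_mem hw.1), E_inv N hw.1, h3]
    have eR : ∀ t, E N (d * y * d⁻¹ * y⁻¹) t = E N y (π⁻¹ t) + E N y t := by
      intro t
      have h3 := hdπ y hy.1 (π⁻¹ t)
      rw [show π (π⁻¹ t) = t from π.apply_symm_apply t] at h3
      rw [E_mul N hm2 (inv_mem hy.1), E_inv N hy.1, h3]
    have hp1 : E N (d * y * d⁻¹ * y⁻¹) p = 1 := by
      rw [← h2, eL, Equiv.swap_apply_left, ew1, ew2, zero_add]
    have hq1 : E N (d * y * d⁻¹ * y⁻¹) q = 1 := by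
      rw [← h2, eL, Equiv.swap_apply_right, ew1, ew2, add_zero]
    -- `π` fixes `(r.1, 0)`
    have hπ0 : π (r.1, 0) = (r.1, 0) := by
      by_contra h3
      obtain ⟨h4, -, b'', hb'', h5⟩ := hπd _ h3
      have h6 : Sw N (r.1, 0) (π (r.1, 0)) := ⟨fun h0 => h3 h0.symm, h4, b'', hAS hb'', h5⟩
      exact h6.nz hA hm rfl
    -- support of `[y, d]`
    have hsupp : ∀ t, E N (d * y * d⁻¹ * y⁻¹) t = 1 → t = r ∨ t = π r := by
      intro t ht
      by_contra hcon
      push Not at hcon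
      rw [eR] at ht
      have h3 : π⁻¹ t ≠ r := fun h4 => hcon.2 (by rw [← h4]; exact (π.apply_symm_apply t).symm)
      by_cases h4 : t = (r.1, 0)
      · have h5 : π⁻¹ t = (r.1, 0) := by
          rw [h4, Equiv.Perm.inv_eq_iff_eq]
          exact hπ0.symm
        rw [h5, h4] at ht
        have h6 : E N y (r.1, 0) = 1 := hy.right hy0
        rw [h6] at ht
        exact absurd ht (by decide)
      · have h5 : π⁻¹ t ≠ (r.1, 0) := fun h6 => h4 (by rw [← (show π (π⁻¹ t) = t from π.apply_symm_apply t), h6, hπ0])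
        rw [hy.zero h3 h5, hy.zero hcon.1 h4, add_zero] at ht
        exact zero_ne_one ht
    have h3 := hsupp p hp1
    have h4 := hsupp q hq1
    have h5 : π r ≠ r := by
      intro h6
      rw [h6, or_self] at h3 h4
      exact hpq (h3.trans h4.symm)
    obtain ⟨h6, -, b'', hb'', h7⟩ := hπd r h5
    have h8 : π r = r' := Sw.uniq hA hS2 hm ⟨fun h0 => h5 h0.symm, h6, b'', hAS hb'', h7⟩ hs'
    rw [h8] at h3 h4
    rcases h3 with h3 | h3 <;> rcases h4 with h4 | h4
    · exact absurd (h3.trans h4.symm) hpq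
    · exact Or.inl ⟨h3, h4⟩
    · exact Or.inr ⟨h3, h4⟩
    · exact absurd (h3.trans h4.symm) hpq
  refine ⟨p, q, hAS, hsw, ⟨b, hb, hπ⟩, fun a ha => ?_⟩
  obtain ⟨π, hπa, hπr⟩ := hof' a ha
  by_cases h1 : π p = p
  · left
    rw [mem_cent_iff hA (hAP ha) hm hπa]
    ext1 r
    by_contra hne
    obtain ⟨h2, h3, h4⟩ := hπr r hne
    rcases huniq r (π r) (fun h0 => hne h0.symm) h2 h4 with ⟨h5, -⟩ | ⟨h5, -⟩
    · exact hne (by rw [← h5]; exact h1)
    · have h6 : π (π r) = π r := by rw [← h5]; exact h1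
      exact hne (π.injective h6)
  · right
    obtain ⟨h2, h3, h4⟩ := hπr p h1
    have h5 : π p = q := by
      rcases huniq p (π p) (fun h0 => h1 h0.symm) h2 h4 with ⟨-, h5⟩ | ⟨h5, -⟩
      · exact h5.symm
      · exact absurd h5.symm h1
    have h6 : π q = p := by rw [← h5]; exact h3
    have h7 : π = Equiv.swap p q := by
      ext1 r
      by_cases hr : π r = r
      · have h8 : r ≠ p := fun h9 => h1 (by rw [← h9]; exact hr)
        have h9 : r ≠ q := fun h9 => by
          rw [h9, h6] at hr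
          exact hpq hr
        rw [Equiv.swap_apply_of_ne_of_ne h8 h9, hr]
      · obtain ⟨h8, h9, h10⟩ := hπr r hr
        rcases huniq r (π r) (fun h0 => hr h0.symm) h8 h10 with ⟨h11, h12⟩ | ⟨h11, h12⟩
        · rw [← h11, Equiv.swap_apply_left, h5]
        · rw [← h12, Equiv.swap_apply_right, h6]
    rw [← h7]
    exact hπa

/-- **An offender with constant commutators is a minimal offender.** -/
theorem min_of_const (M : SymKM (S : Subgroup G) P V ⊥ k m) (hA : Amb (S : Subgroup G) P V) (hm : 1 ≤ m)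
    {A : Subgroup G} (hAS : A ≤ (S : Subgroup G)) (hoff : OffM V A) (hc : Const V A) :
    MinOffM V (S : Subgroup G) A := by
  obtain ⟨p, q, h⟩ := ad_of_const M hA hm hAS hoff hc
  have hAP : A ≤ P := hAS.trans hA.TH
  refine ⟨hAS, hoff, fun B hBA hB => ?_⟩
  have h1 : (centralizer (V : Set G)).relIndex A ≤ 2 := by
    refine rel_le_two fun a ha b hb han hbn => ?_
    have ha' := (h.all a ha).resolve_left han
    have hb' := (h.all b hb).resolve_left hbn
    have h2 := ha'.mul hA hb' (hAP hb)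
    rw [Equiv.swap_mul_self] at h2
    exact (mem_cent_iff hA (mul_mem (hAP ha) (hAP hb)) hm h2).2 rfl
  have h2 : (centralizer (V : Set G)).relIndex B ≠ 0 :=
    FiniteIndex.index_ne_zero (H := (centralizer (V : Set G)).subgroupOf B)
  have h3 : (centralizer (V : Set G)).relIndex B ≠ 1 := fun h0 => hB.ne (relIndex_eq_one.1 h0)
  omega

end Cfsg.Agent.Omega.NOThreeL.NF.SymRP
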