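import Cfsg.Agent.Omega.NO3S.Act.PasCore

/-!
# GammaFF: the passive types lie in `R₀` (THEOREM PAS, the end of #20445 (P1))

* `Pre.c_le_L` : if all `c^p`, `p ∈ P`, are in `B`, then `c ≤ L`;
* `Pre.cent_conjW` : `W^s` centralises `c` for `s ∈ S`;
* `Pre.c_le_R0` : so `c ≤ C_L(⟨W^S⟩)`.
-/

set_option autoImplicit false
set_option linter.unusedSectionVars false

namespace Cfsg.Agent.Omega.NO3S.Pas

open Subgroup Cfsg Cfsg.Agent.Omega.NoFF.Basic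
open Cfsg.Agent.Omega.NOne.Flat (Hyp EE WW NN BadX)
open Cfsg.Agent.Omega.NOThreeL.Low.Key (BH conj_eq_of_norm' norm_conj_mem c_eq_one')
open Cfsg.Agent.ZN (o2)
open scoped Pointwise

universe u

local notation "cm" => Cfsg.Agent.Omega.NOne.NearFF.c

variable {G : Type u} [Group G] [Finite G]

theorem mem_sup_of_norm {G : Type u} [Group G] {A B : Subgroup G}
    (h : B ≤ normalizer (A : Set G)) {x : G} (hx : x ∈ A ⊔ B) : ∃ a ∈ A, ∃ b ∈ B, a * b = x := by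
  have h1 := coe_mul_of_right_le_normalizer_left A B h
  have h2 : x ∈ ((A ⊔ B : Subgroup G) : Set G) := hx
  rw [h1] at h2
  obtain ⟨a, ha, b, hb, e⟩ := h2
  exact ⟨a, ha, b, hb, e⟩

namespace Pre

variable {S V F B P P' L c : Subgroup G} (h : Pre S V F B P P' L c)
include h

/-- `W^s` centralises `c`, `s ∈ S` -/
theorem cent_conjW {s : G} (hs : s ∈ S) : MulAut.conj s • WW V F ≤ centralizer (c : Set G) := by
  intro w hw
  rw [mem_centralizer_iff]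
  intro x hx
  have h1 : s⁻¹ * x * s ∈ c := by
    rw [← mem_conj, conj_eq_of_norm' (h.Pc (h.SP' hs))]
    exact hx
  have h2 := Hyp.F_comm (h.cF h1) (Hyp.W_le_X (mem_conj.1 hw))
  have h3 : s * (s⁻¹ * x * s * (s⁻¹ * w * s)) * s⁻¹ = s * (s⁻¹ * w * s * (s⁻¹ * x * s)) * s⁻¹ := by rw [h2]
  have e1 : s * (s⁻¹ * x * s * (s⁻¹ * w * s)) * s⁻¹ = x * w := by group
  have e2 : s * (s⁻¹ * w * s * (s⁻¹ * x * s)) * s⁻¹ = w * x := by group
  rw [e1, e2] at h3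
  exact h3

/-- the elements of `P` which centralise `U₀ L / L` -/
def KK (h : Pre S V F B P P' L c) : Subgroup G where
  carrier := {n | n ∈ P ∧ ∀ u ∈ h.U, n * u * n⁻¹ * u⁻¹ ∈ L}
  mul_mem' := by
    rintro a b ⟨ha, ha'⟩ ⟨hb, hb'⟩
    refine ⟨mul_mem ha hb, fun u hu => ?_⟩
    have h1 := norm_conj_mem (h.PL ha) (hb' u hu)
    have e : a * b * u * (a * b)⁻¹ * u⁻¹ = a * (b * u * b⁻¹ * u⁻¹) * a⁻¹ * (a * u * a⁻¹ * u⁻¹) := by group
    rw [e]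
    exact mul_mem h1 (ha' u hu)
  one_mem' := ⟨one_mem _, fun u _ => by
    rw [one_mul, inv_one, mul_one, mul_inv_cancel]
    exact one_mem _⟩
  inv_mem' := by
    rintro a ⟨ha, ha'⟩
    refine ⟨inv_mem ha, fun u hu => ?_⟩
    have hu' : a⁻¹ * u * a⁻¹⁻¹ ∈ h.U := norm_conj_mem (h.P_norm_U (inv_mem ha)) hu
    have h1 := inv_mem (ha' _ hu')
    have e : (a * (a⁻¹ * u * a⁻¹⁻¹) * a⁻¹ * (a⁻¹ * u * a⁻¹⁻¹)⁻¹)⁻¹ = a⁻¹ * u * a⁻¹⁻¹ * u⁻¹ := by group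
    rwa [e] at h1

theorem KK_le : h.KK ≤ P := fun _ hn => hn.1

theorem P_norm_KK : P ≤ normalizer (h.KK : Set G) := by
  have key : ∀ t ∈ P, ∀ n ∈ h.KK, t * n * t⁻¹ ∈ h.KK := by
    rintro t ht n ⟨hn, hn'⟩
    refine ⟨mul_mem (mul_mem ht hn) (inv_mem ht), fun u hu => ?_⟩
    have hu' : t⁻¹ * u * t⁻¹⁻¹ ∈ h.U := norm_conj_mem (h.P_norm_U (inv_mem ht)) hu
    have h1 := norm_conj_mem (h.PL ht) (hn' _ hu')
    have e : t * (n * (t⁻¹ * u * t⁻¹⁻¹) * n⁻¹ * (t⁻¹ * u * t⁻¹⁻¹)⁻¹) * t⁻¹ =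
        t * n * t⁻¹ * u * (t * n * t⁻¹)⁻¹ * u⁻¹ := by group
    rwa [e] at h1
  intro t ht
  rw [mem_normalizer_iff]
  intro n
  refine ⟨key t ht n, fun hn => ?_⟩
  have h1 := key _ (inv_mem ht) _ hn
  have e : t⁻¹ * (t * n * t⁻¹) * t⁻¹⁻¹ = n := by group
  rwa [e] at h1

/-- if all `c^p` are in `B`: `[U₀, W] ≤ ρ ≤ L` -/
theorem W_le_KK (good : ∀ p ∈ P, MulAut.conj p • c ≤ B)
    (key : ∀ r ∈ V ⊓ B, ∀ s ∈ WW V F, cm r s ∈ L) : WW V F ≤ h.KK := by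
  intro s hs
  refine ⟨h.SP (h.WS hs), fun u hu => ?_⟩
  have h1 : u ∈ V ⊓ B := ⟨h.U_le_V hu, h.U_le good hu⟩
  have h2 := inv_mem (key u h1 s hs)
  have e : (cm u s)⁻¹ = s * u * s⁻¹ * u⁻¹ := by rw [NOne.NearFF.c]; group
  rwa [e] at h2

/-- `U₀ ≤ c L` -/
theorem U_le_sup (good : ∀ p ∈ P, MulAut.conj p • c ≤ B)
    (key : ∀ r ∈ V ⊓ B, ∀ s ∈ WW V F, cm r s ∈ L)
    (gen : ∀ N : Subgroup G, N ≤ P → P ≤ normalizer (N : Set G) → WW V F ≤ N → P ≤ N ⊔ S) : h.U ≤ c ⊔ L := by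
  refine h.U_le fun p hp => ?_
  have h2 := gen _ h.KK_le h.P_norm_KK (h.W_le_KK good key) hp
  obtain ⟨n, hn, s, hs, rfl⟩ := mem_sup_of_norm (h.SP.trans h.P_norm_KK) h2
  rw [← conj_conj, conj_eq_of_norm' (h.Pc (h.SP' hs))]
  intro y hy
  rw [mem_conj] at hy
  have h5 := hn.2 _ (h.c_le_U hy)
  have e : n * (n⁻¹ * y * n) * n⁻¹ * (n⁻¹ * y * n)⁻¹ = y * (n⁻¹ * y * n)⁻¹ := by group
  rw [e] at h5
  have e2 : y = y * (n⁻¹ * y * n)⁻¹ * (n⁻¹ * y * n) := by group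
  rw [e2]
  exact mul_mem ((le_sup_right : L ≤ c ⊔ L) h5) ((le_sup_left : c ≤ c ⊔ L) hy)

/-- **`c ≤ L`** if all `c^p`, `p ∈ P`, are in `B`. -/
theorem c_le_L (good : ∀ p ∈ P, MulAut.conj p • c ≤ B)
    (key : ∀ r ∈ V ⊓ B, ∀ s ∈ WW V F, cm r s ∈ L)
    (gen : ∀ N : Subgroup G, N ≤ P → P ≤ normalizer (N : Set G) → WW V F ≤ N → P ≤ N ⊔ S)
    (cvq : V ⊓ centralizer ((S ⊓ centralizer (L : Set G) : Subgroup G) : Set G) ≤ L)
    (irr : ∀ X : Subgroup G, X ≤ V → P ≤ normalizer (X : Set G) → X ≠ ⊥ → L ≤ X) : c ≤ L := by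
  set Q : Subgroup G := S ⊓ centralizer (L : Set G) with hQ
  have hU := h.U_le_sup good key gen
  have hcn : c ≤ normalizer (L : Set G) := by
    intro x hx
    rw [mem_normalizer_iff]
    intro y
    have h1 : ∀ z ∈ L, x * z * x⁻¹ = z := fun z hz => by
      rw [h.toHyp.V_comm (h.cV hx) (h.LV hz), mul_inv_cancel_right]
    constructor
    · intro hy
      rwa [h1 y hy]
    · intro hy
      have h2 : x⁻¹ * (x * y * x⁻¹) * x⁻¹⁻¹ = x * y * x⁻¹ := by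
        rw [h.toHyp.V_comm (inv_mem (h.cV hx)) (h.LV hy), mul_inv_cancel_right]
      have e : x⁻¹ * (x * y * x⁻¹) * x⁻¹⁻¹ = y := by group
      rw [e] at h2
      rwa [h2]
  -- `X = [U₀, Q]`
  set X : Subgroup G := closure {y | ∃ u ∈ h.U, ∃ q ∈ Q, y = cm u q} with hX
  have hXc : X ≤ c := by
    rw [hX, closure_le]
    rintro y ⟨u, hu, q, hq, rfl⟩
    have h1 := hU hu
    rw [sup_comm] at h1
    obtain ⟨l, hl, x, hx, rfl⟩ := mem_sup_of_norm hcn h1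
    have e1 : cm (l * x) q = l * (x * (q * x⁻¹ * q⁻¹)) * (q * l⁻¹ * q⁻¹) := by rw [NOne.NearFF.c]; group
    have e2 : q * l⁻¹ * q⁻¹ = l⁻¹ := by
      have := mem_centralizer_iff.1 hq.2 l⁻¹ (inv_mem hl)
      rw [← this, mul_inv_cancel_right]
    have h2 : q * x⁻¹ * q⁻¹ ∈ c := norm_conj_mem (h.Pc (h.SP' hq.1)) (inv_mem hx)
    have h3 : x * (q * x⁻¹ * q⁻¹) ∈ c := mul_mem hx h2
    have e3 : l * (x * (q * x⁻¹ * q⁻¹)) * l⁻¹ = x * (q * x⁻¹ * q⁻¹) := by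
      rw [h.toHyp.V_comm (h.LV hl) (h.cV h3), mul_inv_cancel_right]
    rw [SetLike.mem_coe, e1, e2, e3]
    exact h3
  have hPX : P ≤ normalizer (X : Set G) := by
    have key : ∀ t ∈ P, ∀ x ∈ X, t * x * t⁻¹ ∈ X := by
      intro t ht x hx
      induction hx using closure_induction with
      | mem x hx =>
        obtain ⟨u, hu, q, hq, rfl⟩ := hx
        refine subset_closure ⟨t * u * t⁻¹, norm_conj_mem (h.P_norm_U ht) hu, t * q * t⁻¹,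
          norm_conj_mem (h.PQ ht) hq, ?_⟩
        rw [NOne.NearFF.c, NOne.NearFF.c]
        group
      | one => rw [mul_one, mul_inv_cancel]; exact one_mem _
      | mul x y _ _ hx hy =>
        have e : t * (x * y) * t⁻¹ = t * x * t⁻¹ * (t * y * t⁻¹) := by group
        rw [e]
        exact mul_mem hx hy
      | inv x _ hx =>
        have e : t * x⁻¹ * t⁻¹ = (t * x * t⁻¹)⁻¹ := by group
        rw [e]
        exact inv_mem hx
    intro t ht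
    rw [mem_normalizer_iff]
    intro x
    refine ⟨key t ht x, fun hx => ?_⟩
    have h1 := key _ (inv_mem ht) _ hx
    have e : t⁻¹ * (t * x * t⁻¹) * t⁻¹⁻¹ = x := by group
    rwa [e] at h1
  have hX1 : X = ⊥ := by
    by_contra hne
    have h1 := (irr X (hXc.trans h.cV) hPX hne).trans hXc
    apply h.mov
    intro w hw
    rw [mem_centralizer_iff]
    intro l hl
    exact Hyp.F_comm (h.cF (h1 hl)) (Hyp.W_le_X hw)
  refine le_trans (le_inf h.cV fun x hx => ?_) cvq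
  rw [mem_centralizer_iff]
  intro q hq
  have h1 : cm x q ∈ X := subset_closure ⟨x, h.c_le_U hx, q, hq, rfl⟩
  rw [hX1, mem_bot] at h1
  exact (NOThreeL.Low.Key.comm_of_c h1).symm

end Pre

end Cfsg.Agent.Omega.NO3S.Pas
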