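import Cfsg.Agent.Omega.NO3S.BetaFF.Act
import Cfsg.Agent.Omega.NO3S.Act.PasEnd
import Cfsg.Agent.Omega.NO3S.Act.OneSym
import Cfsg.Agent.Omega.NOThreeL.NF.SymRp
import Cfsg.Agent.PLocal.OffenderStep

/-!
# GammaFF: the dichotomy and the generation lemmas for THEOREM PAS

`Act S P V F`, `L = V_P`, `W = W_F`, `ρ = [L, W]`.

* `rp_of_concl`, `min_of_const` : the interface `RP` and "constant commutators ⟹ minimal offender" from the FF theorem;
* `dich` : `W^k ≤ C(L)` or `ρ^k = ρ^s`, `s ∈ S`;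
* `zc_le` : `Z ≤ ⟨ρ^S⟩`; `irr`, `gen`, `cvq`, `key`.
-/

set_option autoImplicit false
set_option linter.unusedSectionVars false

namespace Cfsg.Agent.Omega.NO3S.Pas

open Subgroup Cfsg Cfsg.Agent.ZN Cfsg.Agent.Omega.MinPar
open Cfsg.Agent.Omega.NoFF.Basic (mem_conj conj_le_iff conj_conj)
open Cfsg.Agent.Omega.NOne
open Cfsg.Agent.Omega.FFThm (ElemM OffM NoOverM ConclM NatKM SymKM StmtM)
open Cfsg.Agent.Omega.NOThreeL.NF (RP MinOffM pts)
open Cfsg.Agent.Omega.NOThreeL.NF.NatR (Const)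
open Cfsg.Agent.Omega.NO3S.BetaFF (Act)
open Cfsg.Agent.Omega.NOThreeL.Low.Key (conj_eq_of_norm' norm_conj_mem c_eq_one')
open Cfsg.Agent.ZN.ChoiceBase (cj mem_cj)
open scoped Pointwise commutatorElement

universe u

set_option maxHeartbeats 400000

local notation "cm" => Cfsg.Agent.Omega.NOne.NearFF.c

variable {G : Type u} [Group G] [Finite G] {S : Sylow 2 G}

/-- the interface `RP` from the conclusion of the FF theorem -/
theorem rp_of_concl (hG : IsCharacteristicTwoType G) {P : Subgroup G} (hP : IsParS (S : Subgroup G) P)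
    (hcv : FrameFF.cv (S : Subgroup G) P = ⊥) (hc : ConclM (S : Subgroup G) P) : RP (S : Subgroup G) P := by
  rcases hc with ⟨F, _, _, _, k, hk, ⟨M⟩⟩ | ⟨k, m, hk, hm, ⟨M⟩⟩
  · exact NOThreeL.NF.rp_of_natKM hP.le hcv M
  · exact NOThreeL.NF.SymRP.rp_of_symKM hG hP.isLoc hcv (by omega) M

/-- an offender with constant commutators is a minimal offender -/
theorem min_of_const (hG : IsCharacteristicTwoType G) {P : Subgroup G} (hP : IsParS (S : Subgroup G) P)
    (hcv : FrameFF.cv (S : Subgroup G) P = ⊥) (hc : ConclM (S : Subgroup G) P) {A : Subgroup G}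
    (hAS : A ≤ (S : Subgroup G)) (hoff : OffM (zl (S : Subgroup G) P) A)
    (hA : Const (zl (S : Subgroup G) P) A) : MinOffM (zl (S : Subgroup G) P) (S : Subgroup G) A := by
  rcases hc with ⟨F, _, _, _, k, hk, ⟨M⟩⟩ | ⟨k, m, hk, hm, ⟨M⟩⟩
  · rw [hcv] at M
    exact NOThreeL.NF.NatR.min_of_const (MinSimple.VModule.le_normalizer_zl _ _) hP.le M hAS hoff hA
  · rw [hcv] at M
    exact NOThreeL.NF.SymRP.min_of_const M (Half.amb_of_loc hG S hP.isLoc) (by omega) hAS hoff hA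

/-- the root property of `I`: `[r, W] = [r', W]` (as sets) for `r, r' ∈ I - F` -/
def Root (V F I : Subgroup G) : Prop :=
  ∀ r ∈ I, r ∉ F → ∀ r' ∈ I, r' ∉ F → ∀ s ∈ Flat.WW V F, ∃ t ∈ Flat.WW V F, cm r' t = cm r s

theorem Root.conj {V F I : Subgroup G} (h : Root V F I) {m : G} (hm : m ∈ normalizer (V : Set G)) :
    Root V (MulAut.conj m • F) (MulAut.conj m • I) := by
  intro r hr hrF r' hr' hrF' s hs
  rw [← Flat.WW_conj hm] at hs ⊢
  rw [mem_conj] at hr hrF hr' hrF' hs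
  obtain ⟨t, ht, h1⟩ := h _ hr hrF _ hr' hrF' _ hs
  refine ⟨m * t * m⁻¹, ?_, ?_⟩
  · rw [mem_conj]
    have e : m⁻¹ * (m * t * m⁻¹) * m = t := by group
    rwa [e]
  · rw [NOne.NearFF.c, NOne.NearFF.c] at h1 ⊢
    have e1 : r' * (m * t * m⁻¹) * r'⁻¹ * (m * t * m⁻¹)⁻¹ =
        m * (m⁻¹ * r' * m * t * (m⁻¹ * r' * m)⁻¹ * t⁻¹) * m⁻¹ := by group
    rw [e1, h1]
    group

theorem c_inv_eq (x a : G) : (cm x a)⁻¹ = a * x * a⁻¹ * x⁻¹ := by
  rw [NOne.NearFF.c]; group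

/-- constant commutators of `L ≤ I` -/
theorem Root.const {V F I L : Subgroup G} (h : Root V F I) (hL : L ≤ I) : Const L (Flat.WW V F) := by
  intro x hx hxc y hy hyc a ha
  have hn : ∀ z : G, z ∉ centralizer (Flat.WW V F : Set G) → z ∉ F := fun z hz hzF => hz (by
    rw [mem_centralizer_iff]
    intro w hw
    exact (Flat.Hyp.F_comm hzF (Flat.Hyp.W_le_X hw)).symm)
  obtain ⟨b, hb, h1⟩ := h x (hL hx) (hn x hxc) y (hL hy) (hn y hyc) a ha
  refine ⟨b, hb, ?_⟩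
  rw [← c_inv_eq, ← c_inv_eq, h1]

/-- `L ≤ E'`, `L ≤ I'`, `W' ≤ S` moves `L`: `W'` is a minimal offender -/
theorem minOff_of_root {P V F I : Subgroup G} (hG : IsCharacteristicTwoType G) (hP : IsParS (S : Subgroup G) P)
    (hcv : FrameFF.cv (S : Subgroup G) P = ⊥) (hc : ConclM (S : Subgroup G) P) (hyp : Flat.Hyp V F)
    (hr : Root V F I) (hIE : I ≤ Flat.EE V F) (hLI : zl (S : Subgroup G) P ≤ I) (hW : Flat.WW V F ≤ (S : Subgroup G))
    (hmov : ¬ Flat.WW V F ≤ centralizer (zl (S : Subgroup G) P : Set G)) :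
    MinOffM (zl (S : Subgroup G) P) (S : Subgroup G) (Flat.WW V F) := by
  have hLE : zl (S : Subgroup G) P ≤ Flat.EE V F := hLI.trans hIE
  have hLV : zl (S : Subgroup G) P ≤ V := hLE.trans inf_le_left
  have h1 := hyp.elemM_W
  refine min_of_const hG hP hcv hc hW ?_ (hr.const hLI)
  exact
    { sq := fun a ha => centralizer_le hLV (h1.sq a ha)
      comm := fun a ha b hb => centralizer_le hLV (h1.comm a ha b hb)
      ne := hmov
      le := FFThm.relIndex_le_iff.2 (hyp.off_of_le_all hLE) }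

/-- `[L, W]` is the set of commutators `[r, W]` with any `r ∈ I - F` -/
theorem mem_comm_iff {P V F I : Subgroup G} (hrp : RP (S : Subgroup G) P) (hr : Root V F I)
    (hLI : zl (S : Subgroup G) P ≤ I) (hm : MinOffM (zl (S : Subgroup G) P) (S : Subgroup G) (Flat.WW V F))
    {r : G} (hrI : r ∈ I) (hrF : r ∉ F) {x : G} :
    x ∈ (⁅zl (S : Subgroup G) P, Flat.WW V F⁆ : Subgroup G) ↔ ∃ a ∈ Flat.WW V F, cm r a = x := by
  obtain ⟨v, hv, hvc⟩ : ∃ v ∈ zl (S : Subgroup G) P, v ∉ centralizer (Flat.WW V F : Set G) := by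
    by_contra hcon
    push Not at hcon
    exact hm.off.ne (le_centralizer_iff.1 hcon)
  have hvF : v ∉ F := fun hzF => hvc (by
    rw [mem_centralizer_iff]
    intro w hw
    exact (Flat.Hyp.F_comm hzF (Flat.Hyp.W_le_X hw)).symm)
  constructor
  · intro hx
    obtain ⟨a, ha, h1⟩ := hrp.surj _ hm v hv hvc _ (inv_mem hx)
    rw [← c_inv_eq, inv_inj] at h1
    obtain ⟨t, ht, h2⟩ := hr v (hLI hv) hvF r hrI hrF a ha
    exact ⟨t, ht, h2.trans h1⟩
  · rintro ⟨a, ha, rfl⟩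
    obtain ⟨t, ht, h2⟩ := hr r hrI hrF v (hLI hv) hvF a ha
    rw [← h2]
    exact commutator_mem_commutator hv ht

/-- `[L, W_F^k] = [L, W_F]^k` if both move `L` -/
theorem comm_conj_eq {P V F I : Subgroup G} (hrp : RP (S : Subgroup G) P) (hr : Root V F I)
    (hLI : zl (S : Subgroup G) P ≤ I) (hm : MinOffM (zl (S : Subgroup G) P) (S : Subgroup G) (Flat.WW V F))
    {k : G} (hk : k ∈ normalizer (V : Set G)) (hLI' : zl (S : Subgroup G) P ≤ MulAut.conj k • I)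
    (hm' : MinOffM (zl (S : Subgroup G) P) (S : Subgroup G) (Flat.WW V (MulAut.conj k • F))) :
    MulAut.conj k • ⁅zl (S : Subgroup G) P, Flat.WW V F⁆ =
      ⁅zl (S : Subgroup G) P, Flat.WW V (MulAut.conj k • F)⁆ := by
  -- `v ∈ L`, not centralised by `W`
  obtain ⟨v, hv, hvc⟩ : ∃ v ∈ zl (S : Subgroup G) P, v ∉ centralizer (Flat.WW V F : Set G) := by
    by_contra hcon
    push Not at hcon
    exact hm.off.ne (le_centralizer_iff.1 hcon)
  have hvF : v ∉ F := fun hzF => hvc (by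
    rw [mem_centralizer_iff]
    intro w hw
    exact (Flat.Hyp.F_comm hzF (Flat.Hyp.W_le_X hw)).symm)
  have hkv : k * v * k⁻¹ ∈ MulAut.conj k • I := by
    rw [mem_conj]
    have e : k⁻¹ * (k * v * k⁻¹) * k = v := by group
    rw [e]
    exact hLI hv
  have hkvF : k * v * k⁻¹ ∉ MulAut.conj k • F := by
    rw [mem_conj]
    have e : k⁻¹ * (k * v * k⁻¹) * k = v := by group
    rwa [e]
  ext x
  rw [mem_conj, mem_comm_iff hrp hr hLI hm (hLI hv) hvF, mem_comm_iff hrp (hr.conj hk) hLI' hm' hkv hkvF,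
    ← Flat.WW_conj hk]
  constructor
  · rintro ⟨a, ha, h1⟩
    refine ⟨k * a * k⁻¹, ?_, ?_⟩
    · rw [mem_conj]
      have e : k⁻¹ * (k * a * k⁻¹) * k = a := by group
      rwa [e]
    · have e : cm (k * v * k⁻¹) (k * a * k⁻¹) = k * cm v a * k⁻¹ := by
        rw [NOne.NearFF.c, NOne.NearFF.c]; group
      rw [e, h1]
      group
  · rintro ⟨a, ha, h1⟩
    rw [mem_conj] at ha
    refine ⟨k⁻¹ * a * k, ha, ?_⟩
    rw [← h1, NOne.NearFF.c, NOne.NearFF.c]
    group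

/-- **The dichotomy**: `W^k` centralises `L`, or `ρ^k` is an `S`-conjugate of `ρ = [L, W]`. -/
theorem dich {P P' V F I : Subgroup G} (h : Act S P V F) (hFF : StmtM.{u}) (PV' : P' ≤ normalizer (V : Set G))
    (WS' : ∀ g ∈ P', MulAut.conj g • Flat.WW V F ≤ (S : Subgroup G)) (hIE : I ≤ Flat.EE V F) (hr : Root V F I)
    (hLI : ∀ g ∈ P', MulAut.conj g • zl (S : Subgroup G) P ≤ I) {k : G} (hk : k ∈ P') :
    MulAut.conj k • Flat.WW V F ≤ centralizer (zl (S : Subgroup G) P : Set G) ∨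
      ∃ s ∈ (S : Subgroup G), MulAut.conj k • ⁅zl (S : Subgroup G) P, Flat.WW V F⁆ =
        MulAut.conj s • ⁅zl (S : Subgroup G) P, Flat.WW V F⁆ := by
  rw [or_iff_not_imp_left]
  intro hmov
  have hkV := PV' hk
  have hcon := (h.ff hFF).2
  have hrp := rp_of_concl h.char2 h.par h.cv hcon
  have hL1 : zl (S : Subgroup G) P ≤ I := by
    have := hLI 1 (one_mem _)
    rwa [map_one, one_smul] at this
  have hm := minOff_of_root h.char2 h.par h.cv hcon h.hyp hr hIE hL1 h.WS h.mov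
  have hLI' : zl (S : Subgroup G) P ≤ MulAut.conj k • I := by
    have h1 := conj_le_iff (g := k) |>.2 (hLI _ (inv_mem hk))
    rwa [conj_conj, mul_inv_cancel, map_one, one_smul] at h1
  have hIE' : MulAut.conj k • I ≤ Flat.EE V (MulAut.conj k • F) := by
    rw [← Flat.EE_conj hkV]
    exact conj_le_iff.2 hIE
  have hWS' : Flat.WW V (MulAut.conj k • F) ≤ (S : Subgroup G) := by
    rw [← Flat.WW_conj hkV]
    exact WS' k hk
  rw [Flat.WW_conj hkV] at hmov
  have hm' := minOff_of_root h.char2 h.par h.cv hcon (h.hyp.conj hkV) (hr.conj hkV) hIE' hLI' hWS' hmov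
  obtain ⟨s, hs, h1⟩ := hrp.conj _ _ hm hm'
  refine ⟨s, hs, ?_⟩
  rw [comm_conj_eq hrp hr hL1 hm hkV hLI' hm', h1]
  rfl

/-- `Z ≤ R₀ = ⟨ρ^S⟩` -/
theorem zc_le {P V F I : Subgroup G} (h : Act S P V F) (hFF : StmtM.{u}) (hIE : I ≤ Flat.EE V F)
    (hr : Root V F I) (hLI : zl (S : Subgroup G) P ≤ I) : zc (S : Subgroup G) ≤
      ⨆ s : (S : Subgroup G), MulAut.conj (s : G) • ⁅zl (S : Subgroup G) P, Flat.WW V F⁆ := by
  have hcon := (h.ff hFF).2
  have hrp := rp_of_concl h.char2 h.par h.cv hcon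
  have hm := minOff_of_root h.char2 h.par h.cv hcon h.hyp hr hIE hLI h.WS h.mov
  intro z hz
  by_cases hz1 : z = 1
  · rw [hz1]; exact one_mem _
  refine (sSup_le ?_ : sSup (pts (zl (S : Subgroup G) P) (S : Subgroup G) (Flat.WW V F)) ≤ _)
    (hrp.zfull _ hm z hz hz1).1
  rintro _ ⟨s, hs, rfl⟩
  exact le_iSup (fun s : (S : Subgroup G) => MulAut.conj (s : G) • ⁅zl (S : Subgroup G) P, Flat.WW V F⁆) ⟨s, hs⟩

theorem rho_le {P V F : Subgroup G} (h : Act S P V F) :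
    ⁅zl (S : Subgroup G) P, Flat.WW V F⁆ ≤ zl (S : Subgroup G) P := by
  rw [commutator_le]
  intro l hl w hw
  have h1 := norm_conj_mem (h.PL (h.WP hw)) (inv_mem hl)
  have e : ⁅l, w⁆ = l * (w * l⁻¹ * w⁻¹) := by rw [commutatorElement_def]; group
  rw [e]
  exact mul_mem hl h1

/-- `L` is the smallest nontrivial `P`-invariant subgroup of `V` -/
theorem irr {P V F : Subgroup G} (h : Act S P V F) (hFF : StmtM.{u}) (X : Subgroup G) (hXV : X ≤ V)
    (hPX : P ≤ normalizer (X : Set G)) (hX : X ≠ ⊥) : zl (S : Subgroup G) P ≤ X := by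
  have hrp := rp_of_concl h.char2 h.par h.cv (h.ff hFF).2
  have hX2 : IsPGroup 2 X := by
    intro x
    refine ⟨1, Subtype.ext ?_⟩
    rw [pow_one, pow_two]
    exact h.hyp.sq' (hXV x.2)
  have hSX : (S : Subgroup G) ≤ normalizer (X : Set G) := h.SP.trans hPX
  have hXS : X ≤ (S : Subgroup G) := by
    have : Fact (Nat.Prime 2) := ⟨Nat.prime_two⟩
    have h1 : IsPGroup 2 ((S : Subgroup G) ⊔ X : Subgroup G) := IsPGroup.to_sup_of_normal_right' S.isPGroup' hX2 hSX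
    have h2 := S.is_maximal' h1 le_sup_left
    rw [← h2]
    exact le_sup_right
  have : Fact (Nat.Prime 2) := ⟨Nat.prime_two⟩
  have h1 := PLocal.OffenderStep.inf_centralizer_ne_bot X (S : Subgroup G) hX2 S.isPGroup' hSX hX
  obtain ⟨c, hc1⟩ := Subgroup.ne_bot_iff_exists_ne_one.1 h1
  have hcS : (c : G) ∈ zc (S : Subgroup G) := by
    rw [ChoiceBase.mem_zc]
    exact ⟨hXS c.2.1, by rw [pow_two]; exact h.hyp.sq' (hXV c.2.1), fun y hy => mem_centralizer_iff.1 c.2.2 y hy⟩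
  exact hrp.irr c hcS (fun h0 => hc1 (Subtype.ext h0)) X hPX c.2.1

/-- `W` and `S` generate `P` -/
theorem gen {P V F : Subgroup G} (h : Act S P V F) (N : Subgroup G) (hN : N ≤ P)
    (hPN : P ≤ normalizer (N : Set G)) (hW : Flat.WW V F ≤ N) : P ≤ N ⊔ (S : Subgroup G) := by
  rcases h.par.toIsPar.sup_eq_or_inf_le S hN hPN with h1 | h1
  · exact h1.ge
  · exfalso
    apply h.mov
    intro w hw
    have h2 := h1 ⟨h.WS hw, hW hw⟩
    rw [← h.o2_eq] at h2
    exact h2.2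

theorem cvq {P V F : Subgroup G} (h : Act S P V F) (hFF : StmtM.{u}) :
    V ⊓ centralizer (((S : Subgroup G) ⊓ centralizer (zl (S : Subgroup G) P : Set G) : Subgroup G) : Set G) ≤
      zl (S : Subgroup G) P := by
  rw [h.o2_eq]
  exact (h.cent_VQ hFF).le

/-- `[I, W] ≤ L` -/
theorem key {P V F I : Subgroup G} (h : Act S P V F) (hr : Root V F I) (hLI : zl (S : Subgroup G) P ≤ I)
    {r s : G} (hrI : r ∈ I) (hs : s ∈ Flat.WW V F) : cm r s ∈ zl (S : Subgroup G) P := by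
  by_cases hrF : r ∈ F
  · rw [c_eq_one' (Flat.Hyp.F_comm hrF (Flat.Hyp.W_le_X hs))]
    exact one_mem _
  obtain ⟨v, hv, hvc⟩ : ∃ v ∈ zl (S : Subgroup G) P, v ∉ centralizer (Flat.WW V F : Set G) := by
    by_contra hcon
    push Not at hcon
    exact h.mov (le_centralizer_iff.1 hcon)
  have hvF : v ∉ F := fun hzF => hvc (by
    rw [mem_centralizer_iff]
    intro w hw
    exact (Flat.Hyp.F_comm hzF (Flat.Hyp.W_le_X hw)).symm)
  obtain ⟨t, ht, h1⟩ := hr r hrI hrF v (hLI hv) hvF s hs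
  rw [← h1]
  have h2 := norm_conj_mem (h.PL (h.WP ht)) (inv_mem hv)
  have e : cm v t = v * (t * v⁻¹ * t⁻¹) := by rw [NOne.NearFF.c]; group
  rw [e]
  exact mul_mem hv h2

/-- the dichotomy in the literal form of `Pre.pas` -/
theorem dich' {P P' V F B : Subgroup G} (h : Act S P V F) (hFF : StmtM.{u}) (PV' : P' ≤ normalizer (V : Set G))
    (WS' : ∀ g ∈ P', MulAut.conj g • Flat.WW V F ≤ (S : Subgroup G)) (hIE : V ⊓ B ≤ Flat.EE V F)
    (hr : Root V F (V ⊓ B)) (hLB : ∀ g ∈ P', MulAut.conj g • zl (S : Subgroup G) P ≤ B) :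
    ∀ k ∈ P', MulAut.conj k • Flat.WW V F ≤ centralizer (zl (S : Subgroup G) P : Set G) ∨
      ∃ s ∈ (S : Subgroup G), MulAut.conj k • ⁅zl (S : Subgroup G) P, Flat.WW V F⁆ =
        MulAut.conj s • ⁅zl (S : Subgroup G) P, Flat.WW V F⁆ := by
  intro k hk
  refine dich h hFF PV' WS' hIE hr (fun g hg => le_inf ?_ (hLB g hg)) hk
  have h1 := conj_le_iff (g := g) |>.2 h.LV
  rwa [conj_eq_of_norm' (PV' hg)] at h1

/-- the root property from KEY in the form `[r, W] = [E, b]` -/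
theorem Root.of_key {V F B : Subgroup G}
    (hk : ∀ r ∈ V ⊓ B, r ∉ F → ∀ b ∈ B, b ∉ Flat.NN V F →
      ∀ y, (∃ s ∈ Flat.WW V F, cm r s = y) ↔ ∃ e ∈ Flat.EE V F, cm e b = y)
    (hex : ∃ b ∈ B, b ∉ Flat.NN V F) : Root V F (V ⊓ B) := by
  obtain ⟨b, hb, hbN⟩ := hex
  intro r hr hrF r' hr' hrF' s hs
  obtain ⟨e, he, h1⟩ := (hk r hr hrF b hb hbN _).1 ⟨s, hs, rfl⟩
  exact (hk r' hr' hrF' b hb hbN _).2 ⟨e, he, h1⟩

end Cfsg.Agent.Omega.NO3S.Pas
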