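import Cfsg.Agent.Omega.NO3S.Level.Gamma
import Cfsg.Agent.Omega.NO3S.Act.AllGood
import Cfsg.Agent.Omega.NO3S.Pas.Inst

/-!
# GammaFF: the socket `GamUniq` (UNIQ) from `⟨Z^⟨P*(S)⟩⟩ ≤ E`

* `WSt.wfr` : the front `Pas.WFr S M₀ X₀ F` of the W-stage;
* `WSt.uniq_of_le` : `⟨Z^⟨P*(S)⟩⟩ ≤ E_F`, `W_F ≤ S` moves `V_P`, `C_Z(P) = 1` ⟹ `V_P = ⟨Z^⟨P*(S)⟩⟩` is FF and all
  members of `P*(S)` normalise it;
* `gamUniq_of_le` : `GamUniq K`, if `⟨Z^⟨P*(S)⟩⟩ ≤ E_F` (or `G` is known).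
-/

set_option autoImplicit false

namespace Cfsg.Agent.Omega.NO3S

open Subgroup Cfsg Cfsg.Agent.ZN Cfsg.Agent.Omega.MinPar Cfsg.Agent.Omega.Frame Cfsg.Agent.Omega.FrameNOFF
open Cfsg.Agent.Omega.FrameFF (cv)
open Cfsg.Agent.Omega.FFThm (OffM)
open Cfsg.Agent.Omega.NO3S.Level
open Cfsg.Agent.Omega.NOThreeL.Merge (MZ)

universe u

set_option maxHeartbeats 400000

section

variable {G : Type u} [Group G] [Finite G] {S : Sylow 2 G} {P F : Subgroup G}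

/-- The front of the W-stage. -/
theorem Level.WSt.wfr (h : WSt S P F) : Pas.WFr S (M0 (S : Subgroup G)) (X0 (S : Subgroup G)) F where
  hc := h.ctx.char2
  noff := h.noFF
  low := h.low
  hyp := h.hyp
  PM := fun _ hR => par_le hR
  MV := M0_norm _
  ZV := zc_le_X0 h.hj
  WS := h.WS

theorem Level.WSt.cv_eq (h : WSt S P F) (h0 : zc (S : Subgroup G) ⊓ centralizer (P : Set G) = ⊥) :
    cv (S : Subgroup G) P = ⊥ := NoFF.LinesPlug.inf_oddGen_eq_bot h.ctx.char2 S h.par.toIsPar h0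

/-- UNIQ from `⟨Z^⟨P*(S)⟩⟩ ≤ E`. -/
theorem Level.WSt.uniq_of_le (h : WSt S P F) (h0 : zc (S : Subgroup G) ⊓ centralizer (P : Set G) = ⊥)
    (hE : zl (S : Subgroup G) (MZ (S : Subgroup G)) ≤ NOne.Flat.EE (X0 (S : Subgroup G)) F) :
    FFMod (S : Subgroup G) P ∧ ∀ R, IsParS (S : Subgroup G) R → R ≤ normalizer (zl (S : Subgroup G) P : Set G) := by
  have a := h.wfr.act h.par (h.cv_eq h0) h.mv
  have hPM : P ≤ MZ (S : Subgroup G) := le_sSup h.par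
  refine ⟨⟨_, h.WS, a.offM⟩, ?_⟩
  -- `W` offends on `⟨Z^⟨P*(S)⟩⟩`
  have hmov : ¬ NOne.Flat.WW (X0 (S : Subgroup G)) F ≤
      centralizer (zl (S : Subgroup G) (MZ (S : Subgroup G)) : Set G) := fun h1 =>
    a.mov (h1.trans (centralizer_le (AllGood.zl_mono hPM)))
  obtain ⟨R, hR, he⟩ := thmD_MZ h.toHypC h.ty ⟨_, (h.WS.trans h.par.le).trans hPM, AllGood.offM_of_le a hE hmov⟩
  have aR : BetaFF.Act S R (X0 (S : Subgroup G)) F := by
    refine h.wfr.act hR.par (h.toHypC.hypN hR.par hR.nonLoc).toHyp.cen fun h1 => hmov ?_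
    rw [he]
    rw [← IsParS.inf_centralizer S h.ctx.char2 hR.par] at h1
    exact h1.trans inf_le_right
  have h1 : zl (S : Subgroup G) (R ⊔ P) ≤ NOne.Flat.EE (X0 (S : Subgroup G)) F :=
    (AllGood.zl_mono (sup_le (le_sSup hR.par) hPM)).trans hE
  have h2 := AllGood.eq_of_good FF.Glob.ffthmM aR a h1
  intro R' hR'
  rw [h2, ← he]
  exact (le_sSup hR' : R' ≤ MZ (S : Subgroup G)).trans (ZN.le_normalizer_zl _ _)

end

/-- `GamUniq K`, if `⟨Z^⟨P*(S)⟩⟩ ≤ E_F` or `G` is known. -/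
theorem gamUniq_of_le (K : Cls.{u}) (H : ∀ (G : Type u) [Group G] [Finite G], K G → ∀ (S : Sylow 2 G) (P F : Subgroup G),
    WSt S P F → zc (S : Subgroup G) ⊓ centralizer (P : Set G) = ⊥ →
      zl (S : Subgroup G) (MZ (S : Subgroup G)) ≤ NOne.Flat.EE (X0 (S : Subgroup G)) F ∨ IsKnownSimple' G) :
    GamUniq K := fun G _ _ hK S P F h h0 =>
  (H G hK S P F h h0).imp (fun hE => h.uniq_of_le h0 hE) id

end Cfsg.Agent.Omega.NO3S
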