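import Cfsg.Agent.Omega.NOThreeL.VF.All
import Cfsg.Agent.Omega.NOThreeL.NF.Defs

/-!
# THEOREM VF (1)-(5) for a generating set of types

`M ∈ L(S)` is generated by a set `TT ⊆ P*(S)` of minimal parabolics in `M`, `V = zl S M` (Omega/NOThreeL/VF/One.lean,
All.lean with `TT` = all members of `P*(S)` in `M`).

* `gallery` : a 2-subgroup `A` of `M` with `[V, A] ≠ 1` is `M`-conjugate to a subgroup of `S` which
  does not centralise `V_P` for some `P ∈ TT`;
* `one` : if `M` has an offender on `V`, then no subgroup of `M` over-offends on `V`, and there are `P ∈ TT` and an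
  offender `A ≤ S` on `V` and on `V_P` with `C_A(V_P) = C_A(V)`; the conclusion of the FF theorem holds for `P`;
* `eq_zl` : if `C_{V_P}(O²(P)) = 1` for `P ∈ TT`, then `V = V_P` for some `P ∈ TT`;
* `eq_zl_of_min` : `V = V_P` for every `P ∈ TT` such that a minimal offender `A ≤ S` on `V` moves `V_P`.
-/

set_option autoImplicit false
set_option linter.unusedSectionVars false

namespace Cfsg.Agent.Omega.NO3S.AllGood

open Subgroup Cfsg Cfsg.Agent.ZN Cfsg.Agent.ZN.ChoiceBase Cfsg.Agent.ZN.ChoiceSit Cfsg.Agent.Omega.MinPar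
open Cfsg.Agent.Omega.FFThm
open Cfsg.Agent.Omega.NOThreeL.VF
open Cfsg.Agent.MinSimple.VModule (zl_le le_normalizer_zl zc_le_zl mem_zc le_o2 o2_isPGroup le_normalizer_o2)

universe u

variable {G : Type u} [Group G] [Finite G]

/-- A 2-subgroup `A ≤ M` moving `V = ⟨Z^M⟩` moves some line `V_P`, `P ∈ P*(T)`, `A ≤ T ∈ Syl₂(M)`. -/
theorem gallery (hc : IsCharacteristicTwoType G) (S : Sylow 2 G) {M : Subgroup G}
    (hM : IsLoc (S : Subgroup G) M) {TT : Set (Subgroup G)} (hT : ∀ P ∈ TT, IsParS (S : Subgroup G) P ∧ P ≤ M)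
    (hgen : M ≤ sSup TT)
    {A : Subgroup G} (hA : A ≤ M) (hA2 : IsPGroup 2 A)
    (hne : ¬ A ≤ centralizer (zl (S : Subgroup G) M : Set G)) :
    ∃ m ∈ M, ∃ P ∈ TT, cj m A ≤ (S : Subgroup G) ∧
      ¬ cj m A ≤ centralizer (zl (S : Subgroup G) P : Set G) := by
  by_contra hcon
  push Not at hcon
  apply hne
  -- all conjugates of `A` lie in `S`
  let Y : Subgroup G :=
    { carrier := {g | ∀ m, cj m A ≤ (S : Subgroup G) ∧ m ∈ M ↔ cj (g * m) A ≤ (S : Subgroup G) ∧ g * m ∈ M}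
      mul_mem' := by
        intro a b ha hb m
        have h1 := hb m
        have h2 := ha (b * m)
        rw [← mul_assoc] at h2
        exact h1.trans h2
      one_mem' := by intro m; rw [one_mul]
      inv_mem' := by
        intro a ha m
        have h1 := ha (a⁻¹ * m)
        have e : a * (a⁻¹ * m) = m := by group
        rw [e] at h1
        exact h1.symm }
  have key : ∀ P ∈ TT, ∀ p ∈ P, ∀ m, cj m A ≤ (S : Subgroup G) → m ∈ M →
      cj (p * m) A ≤ (S : Subgroup G) ∧ p * m ∈ M := by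
    intro P hPT p hp m hm hmM
    obtain ⟨hP, hPM⟩ := hT P hPT
    refine ⟨?_, mul_mem (hPM hp) hmM⟩
    have h1 := hcon m hmM P hPT hm
    have h2 : cj m A ≤ o2 P := by
      rw [← hP.inf_centralizer S hc]
      exact le_inf hm h1
    have h3 := h2.trans (FrameNOFF.o2_le_conj S hP.toIsPar (P.inv_mem hp))
    have h4 := cj_mono p h3
    rw [cj_cj] at h4
    refine h4.trans ?_
    intro x hx
    rw [mem_cj] at hx
    change p⁻¹ * x * p ∈ cj p⁻¹ (S : Subgroup G) at hx
    rw [mem_cj] at hx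
    have e : p⁻¹⁻¹ * (p⁻¹ * x * p) * p⁻¹ = x := by group
    rwa [e] at hx
  have hY : ∀ P ∈ TT, P ≤ Y := by
    intro P hPT p hp m
    constructor
    · rintro ⟨h1, h2⟩
      exact key P hPT p hp m h1 h2
    · rintro ⟨h1, h2⟩
      have h3 := key P hPT p⁻¹ (inv_mem hp) (p * m) h1 h2
      have e : p⁻¹ * (p * m) = m := by group
      rwa [e] at h3
  have hMY : M ≤ Y := hgen.trans (sSup_le fun P hP => hY P hP)
  obtain ⟨m₀, hm₀, hA₀⟩ := FFThm.exists_conj_le S hM.le hA2 hA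
  have hall : ∀ m ∈ M, cj m⁻¹ A ≤ (S : Subgroup G) := by
    intro m hm
    have h1 := (hMY (mul_mem (inv_mem hm) (inv_mem hm₀)) : _ ∈ Y) m₀
    have h2 := (h1.1 ⟨hA₀, hm₀⟩).1
    have e : m⁻¹ * m₀⁻¹ * m₀ = m⁻¹ := by group
    rwa [e] at h2
  have h1 := le_o2_of_cj S hM.le hall
  have h2 := hM.zl_le S hc
  intro a ha
  rw [mem_centralizer_iff]
  intro v hv
  exact ((Cfsg.Agent.MinSimple.VModule.mem_zc.1 (h2 hv)).2.1 a (h1 ha)).symm

/-! ### (1) -/

/-- **(1)** -/
theorem one (hFF : StmtM.{u}) (hc : IsCharacteristicTwoType G) (S : Sylow 2 G) {M : Subgroup G}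
    (hM : IsLoc (S : Subgroup G) M) {TT : Set (Subgroup G)} (hT : ∀ P ∈ TT, IsParS (S : Subgroup G) P ∧ P ≤ M)
    (hgen : M ≤ sSup TT)
    (hoff : ∃ A ≤ M, OffM (zl (S : Subgroup G) M) A) :
    NoOverM (zl (S : Subgroup G) M) M ∧ ∃ P ∈ TT, ∃ A ≤ (S : Subgroup G),
      OffM (zl (S : Subgroup G) M) A ∧ OffM (zl (S : Subgroup G) P) A ∧
      A ⊓ centralizer (zl (S : Subgroup G) P : Set G) ≤ centralizer (zl (S : Subgroup G) M : Set G) ∧
      ConclM (S : Subgroup G) P := by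
  classical
  set V : Subgroup G := zl (S : Subgroup G) M with hVd
  have hMV : M ≤ normalizer (V : Set G) := Cfsg.Agent.MinSimple.VModule.le_normalizer_zl _ _
  -- the class
  let 𝒞 : Set (Subgroup G) := {B | B ≤ M ∧ IsPGroup 2 B ∧ ElemM V B ∧ ¬ B ≤ centralizer (V : Set G)}
  -- replacement
  have hrep : ∀ A ≤ M, ElemM V A → ¬ A ≤ centralizer (V : Set G) → ∃ B ∈ 𝒞, fM V B = fM V A := by
    intro A hA hE hne
    obtain ⟨B, hB, hB2, h⟩ := exists_two (hA.trans hMV) hE
    refine ⟨B, ⟨hB.trans hA, hB2, elemM_mono hE hB, fun h1 => hne fun a ha => ?_⟩, fM_congr hB h⟩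
    obtain ⟨b, hb, hab⟩ := h a ha
    have h2 := mul_mem (h1 hb) hab
    have e : b * (b⁻¹ * a) = a := by group
    rwa [e] at h2
  obtain ⟨A₀, hA₀M, hA₀⟩ := hoff
  obtain ⟨B₀, hB₀, hfB₀⟩ := hrep A₀ hA₀M hA₀.toElemM hA₀.ne
  have hVf₀ : Nat.card V ≤ fM V B₀ := by
    rw [hfB₀]
    exact le_fM_iff.2 hA₀.le
  obtain ⟨B₁, hB₁, hmax⟩ := Set.exists_max_image 𝒞 (fM V) (Set.toFinite _) ⟨B₀, hB₀⟩
  obtain ⟨B, ⟨hB, hBf⟩, hmin⟩ := Set.exists_min_image {B | B ∈ 𝒞 ∧ fM V B = fM V B₁}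
    (fun B => (centralizer (V : Set G)).relIndex B) (Set.toFinite _) ⟨B₁, hB₁, rfl⟩
  -- move it into `S`
  obtain ⟨m, hm, P, hPT, hmS, hmP⟩ := gallery hc S hM hT hgen hB.1 hB.2.1 hB.2.2.2
  obtain ⟨hP, hPM⟩ := hT P hPT
  have hmV := hMV hm
  have hcj := fM_cj (A := B) hmV
  set A : Subgroup G := cj m B with hAd
  have hAM : A ≤ M := hmS.trans hM.le
  have hAE : ElemM V A := elemM_cj hmV hB.2.2.1
  have hWV : zl (S : Subgroup G) P ≤ V := Cfsg.Agent.MinSimple.VModule.zl_le (Cfsg.Agent.MinSimple.VModule.zc_le_zl _ _) (hPM.trans hMV)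
  set W : Subgroup G := zl (S : Subgroup G) P with hWd
  have hCVW : centralizer (V : Set G) ≤ centralizer (W : Set G) := centralizer_le hWV
  have hAne : ¬ A ≤ centralizer (V : Set G) := fun h => hmP (h.trans hCVW)
  have hAW : ElemM W A := ⟨fun a ha => hCVW (hAE.sq a ha), fun a ha b hb => hCVW (hAE.comm a ha b hb)⟩
  have hfA : fM V A = fM V B₁ := hcj.1.trans hBf
  have hPFF : (∃ A ≤ P, OffM W A) → NoOverM W P ∧ ConclM (S : Subgroup G) P := fun h =>
    hFF G (S : Subgroup G) P (syl_of_sylow S hP.le) hP.toIsMinPar (hP.isLoc.char2 S hc) h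
  -- no over-offender on `W`
  have hno : Nat.card A * Nat.card ↥(W ⊓ centralizer (A : Set G)) ≤
      Nat.card W * Nat.card ↥(A ⊓ centralizer (W : Set G)) := by
    by_contra hcon
    have hoffW : OffM W A := ⟨hAW, hmP, (not_le.1 hcon).le⟩
    exact hcon ((hPFF ⟨A, hmS.trans hP.le, hoffW⟩).1 A (hmS.trans hP.le) hAW)
  have hle := fM_le hWV hno
  set A₁ : Subgroup G := A ⊓ centralizer (W : Set G) with hA₁
  have hA₁V : A₁ ≤ centralizer (V : Set G) := by
    by_contra hcon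
    have hmem : A₁ ∈ 𝒞 := ⟨inf_le_left.trans hAM, (S.isPGroup'.to_le hmS).to_le inf_le_left,
      elemM_mono hAE inf_le_left, hcon⟩
    have h1 := hmax A₁ hmem
    have h2 : fM V A₁ = fM V B₁ := le_antisymm h1 (hfA ▸ hle)
    have h3 := hmin A₁ ⟨hmem, h2⟩
    rw [← hcj.2] at h3
    have e4 : A₁ ⊓ centralizer (V : Set G) = A ⊓ centralizer (V : Set G) := by
      rw [hA₁, inf_assoc, inf_eq_right.2 hCVW]
    have h4 : Nat.card A ≤ Nat.card A₁ := by
      rw [card_eq_rel V A, card_eq_rel V A₁, e4]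
      exact Nat.mul_le_mul_right _ h3
    have h5 : A₁ = A := Subgroup.eq_of_le_of_card_ge inf_le_left h4
    exact hmP (inf_eq_left.1 h5)
  have hfA₁ : fM V A₁ = Nat.card V := fM_of_le hA₁V
  have hfB₁ : fM V B₁ = Nat.card V :=
    le_antisymm (hfA ▸ hfA₁ ▸ hle) (hVf₀.trans (hmax B₀ hB₀))
  have hNO : NoOverM V M := by
    intro D hD hE
    rw [← fM_le_iff]
    by_cases hne : D ≤ centralizer (V : Set G)
    · exact (fM_of_le hne).le
    · obtain ⟨B', hB', h1⟩ := hrep D hD hE hne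
      rw [← h1, ← hfB₁]
      exact hmax B' hB'
  have hfAV : fM V A = Nat.card V := hfA.trans hfB₁
  have hoffV : OffM V A := ⟨hAE, hAne, le_fM_iff.1 hfAV.ge⟩
  have hoffW : OffM W A := by
    refine ⟨hAW, hmP, ?_⟩
    have h3 := card_mul_card_le hWV (inf_le_left : V ⊓ centralizer (A : Set G) ≤ V)
    have e3 : W ⊓ (V ⊓ centralizer (A : Set G)) = W ⊓ centralizer (A : Set G) := by
      rw [← inf_assoc, inf_eq_left.2 hWV]
    rw [e3] at h3
    have h4 := fM_mul V A
    rw [hfAV] at h4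
    have e4 : A₁ = A ⊓ centralizer (V : Set G) := by
      apply le_antisymm
      · exact le_inf inf_le_left hA₁V
      · exact inf_le_inf le_rfl hCVW
    rw [← e4] at h4
    have p1 : 0 < Nat.card V := Nat.card_pos
    have h5 : Nat.card V * (Nat.card W * Nat.card A₁) ≤
        Nat.card V * (Nat.card A * Nat.card ↥(W ⊓ centralizer (A : Set G))) := by
      calc Nat.card V * (Nat.card W * Nat.card A₁) = Nat.card W * (Nat.card V * Nat.card A₁) := by ring
        _ = Nat.card W * (Nat.card A * Nat.card ↥(V ⊓ centralizer (A : Set G))) := by rw [h4]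
        _ = Nat.card A * (Nat.card W * Nat.card ↥(V ⊓ centralizer (A : Set G))) := by ring
        _ ≤ Nat.card A * (Nat.card V * Nat.card ↥(W ⊓ centralizer (A : Set G))) := Nat.mul_le_mul_left _ h3
        _ = _ := by ring
    exact Nat.le_of_mul_le_mul_left h5 p1
  exact ⟨hNO, P, hPT, A, hmS, hoffV, hoffW, hA₁V, (hPFF ⟨A, hmS.trans hP.le, hoffW⟩).2⟩

/-- the common end -/
theorem le_zl (hFF : StmtM.{u}) (hc : IsCharacteristicTwoType G) (S : Sylow 2 G) {M : Subgroup G}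
    (hM : IsLoc (S : Subgroup G) M) {P : Subgroup G} (hP : IsParS (S : Subgroup G) P) (hPM : P ≤ M)
    (hcv : FrameFF.cv (S : Subgroup G) P = ⊥) (no : NoOverM (zl (S : Subgroup G) M) M) {A : Subgroup G}
    (hA : A ≤ (S : Subgroup G)) (offW : OffM (zl (S : Subgroup G) M) A) (offV : OffM (zl (S : Subgroup G) P) A)
    (hAC : A ⊓ centralizer (zl (S : Subgroup G) P : Set G) ≤ centralizer (zl (S : Subgroup G) M : Set G)) :
    zl (S : Subgroup G) M = zl (S : Subgroup G) P := by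
  have hSP : (S : Subgroup G) ≤ P := hP.le
  obtain ⟨hno, hcon⟩ := hFF G S P (FFThm.syl_of_sylow S hSP) hP.toIsMinPar (hP.isLoc.char2 S hc)
    ⟨A, hA.trans hSP, offV⟩
  have hVW : zl (S : Subgroup G) P ≤ zl (S : Subgroup G) M := by
    unfold zl
    exact iSup_le fun p => le_iSup (fun g : M => (zc (S : Subgroup G)).map (MulAut.conj (g : G)).toMonoidHom)
      ⟨p, hPM p.2⟩
  have hE := FFThm.elem_zl hc S hM
  have s : Cfsg.Agent.Omega.NOThreeL.VF.Q.Sit M (zl (S : Subgroup G) M) (zl (S : Subgroup G) P) :=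
    { ab := fun x hx y hy => congrArg Subtype.val (hE.1.is_comm.comm ⟨x, hx⟩ ⟨y, hy⟩)
      sq := fun x hx => by rw [← pow_two]; exact hE.2 x hx
      VW := hVW
      nW := Cfsg.Agent.MinSimple.VModule.le_normalizer_zl _ _ }
  have hWS : zl (S : Subgroup G) M ≤ (S : Subgroup G) :=
    ((hM.zl_le S hc).trans (Cfsg.Agent.MinSimple.VModule.zc_le _)).trans (hM.o2_le S)
  refine le_antisymm ?_ hVW
  rcases hcon with ⟨F, _, _, _, k, hk, ⟨N⟩⟩ | ⟨k, m, hk, hm, ⟨N⟩⟩
  · rw [hcv] at N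
    exact Q.nat_le N s S.isPGroup' hSP hPM hWS no hno hA offW offV.ne hAC
  · rw [hcv] at N
    exact Q.S.sym_le N (by omega) s S.isPGroup' hSP hPM hWS no hno hA offW offV.ne hAC

/-- **THEOREM VF, (1)-(5)**, for `TT`. -/
theorem eq_zl (hFF : StmtM.{u}) (hc : IsCharacteristicTwoType G) (S : Sylow 2 G) {M : Subgroup G}
    (hM : IsLoc (S : Subgroup G) M) {TT : Set (Subgroup G)} (hT : ∀ P ∈ TT, IsParS (S : Subgroup G) P ∧ P ≤ M)
    (hgen : M ≤ sSup TT) (hcv : ∀ P ∈ TT, FrameFF.cv (S : Subgroup G) P = ⊥)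
    (hoff : ∃ A ≤ M, OffM (zl (S : Subgroup G) M) A) :
    NoOverM (zl (S : Subgroup G) M) M ∧ ∃ P ∈ TT, zl (S : Subgroup G) M = zl (S : Subgroup G) P ∧
      ∃ A ≤ (S : Subgroup G), OffM (zl (S : Subgroup G) P) A := by
  obtain ⟨no, P, hPT, A, hA, offW, offV, hAC, -⟩ := one hFF hc S hM hT hgen hoff
  exact ⟨no, P, hPT, le_zl hFF hc S hM (hT P hPT).1 (hT P hPT).2 (hcv P hPT) no hA offW offV hAC, A, hA, offV⟩

/-- a minimal offender `A ≤ S` on `V = zl S M` which moves `V_P`: then `V = V_P` (`no`: nothing over-offends on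
`V`; `noP`: `A` does not over-offend on `V_P`). -/
theorem eq_zl_of_min (hFF : StmtM.{u}) (hc : IsCharacteristicTwoType G) (S : Sylow 2 G) {M : Subgroup G}
    (hM : IsLoc (S : Subgroup G) M) {P : Subgroup G} (hP : IsParS (S : Subgroup G) P) (hPM : P ≤ M)
    (hcv : FrameFF.cv (S : Subgroup G) P = ⊥) (no : NoOverM (zl (S : Subgroup G) M) M)
    (noP : NoOverM (zl (S : Subgroup G) P) P) {A : Subgroup G}
    (hmin : NOThreeL.NF.MinOffM (zl (S : Subgroup G) M) (S : Subgroup G) A)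
    (hne : ¬ A ≤ centralizer (zl (S : Subgroup G) P : Set G)) :
    zl (S : Subgroup G) M = zl (S : Subgroup G) P := by
  set V : Subgroup G := zl (S : Subgroup G) M with hVd
  set W : Subgroup G := zl (S : Subgroup G) P with hWd
  have hAS := hmin.le
  have hWV : W ≤ V := by
    rw [hWd, hVd]
    unfold zl
    exact iSup_le fun p => le_iSup (fun g : M => (zc (S : Subgroup G)).map (MulAut.conj (g : G)).toMonoidHom)
      ⟨p, hPM p.2⟩
  have hCVW : centralizer (V : Set G) ≤ centralizer (W : Set G) := centralizer_le hWV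
  have hAE := hmin.off.toElemM
  have hAW : ElemM W A := ⟨fun a ha => hCVW (hAE.sq a ha), fun a ha b hb => hCVW (hAE.comm a ha b hb)⟩
  have hno := noP A (hAS.trans hP.le) hAW
  have hle := fM_le hWV hno
  have hfA : Nat.card V ≤ fM V A := le_fM_iff.2 hmin.off.le
  set A₁ : Subgroup G := A ⊓ centralizer (W : Set G) with hA₁
  have hA₁E : ElemM V A₁ := elemM_mono hAE inf_le_left
  have hA₁V : A₁ ≤ centralizer (V : Set G) := by
    by_contra hcon
    have h1 : OffM V A₁ := ⟨hA₁E, hcon, le_fM_iff.1 (hfA.trans hle)⟩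
    have h3 := hmin.min A₁ inf_le_left h1
    have e4 : A₁ ⊓ centralizer (V : Set G) = A ⊓ centralizer (V : Set G) := by
      rw [hA₁, inf_assoc, inf_eq_right.2 hCVW]
    have h4 : Nat.card A ≤ Nat.card A₁ := by
      rw [card_eq_rel V A, card_eq_rel V A₁, e4]
      exact Nat.mul_le_mul_right _ h3
    have h5 : A₁ = A := Subgroup.eq_of_le_of_card_ge inf_le_left h4
    exact hne (inf_eq_left.1 h5)
  have hfA₁ : fM V A₁ = Nat.card V := fM_of_le hA₁V
  have hfAV : fM V A = Nat.card V := le_antisymm (hle.trans hfA₁.le) hfA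
  have hoffW : OffM W A := by
    refine ⟨hAW, hne, ?_⟩
    have h3 := card_mul_card_le hWV (inf_le_left : V ⊓ centralizer (A : Set G) ≤ V)
    have e3 : W ⊓ (V ⊓ centralizer (A : Set G)) = W ⊓ centralizer (A : Set G) := by
      rw [← inf_assoc, inf_eq_left.2 hWV]
    rw [e3] at h3
    have h4 := fM_mul V A
    rw [hfAV] at h4
    have e4 : A₁ = A ⊓ centralizer (V : Set G) := by
      apply le_antisymm
      · exact le_inf inf_le_left hA₁V
      · exact inf_le_inf le_rfl hCVW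
    rw [← e4] at h4
    have p1 : 0 < Nat.card V := Nat.card_pos
    have h5 : Nat.card V * (Nat.card W * Nat.card A₁) ≤
        Nat.card V * (Nat.card A * Nat.card ↥(W ⊓ centralizer (A : Set G))) := by
      calc Nat.card V * (Nat.card W * Nat.card A₁) = Nat.card W * (Nat.card V * Nat.card A₁) := by ring
        _ = Nat.card W * (Nat.card A * Nat.card ↥(V ⊓ centralizer (A : Set G))) := by rw [h4]
        _ = Nat.card A * (Nat.card W * Nat.card ↥(V ⊓ centralizer (A : Set G))) := by ring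
        _ ≤ Nat.card A * (Nat.card V * Nat.card ↥(W ⊓ centralizer (A : Set G))) := Nat.mul_le_mul_left _ h3
        _ = _ := by ring
    exact Nat.le_of_mul_le_mul_left h5 p1
  exact le_zl hFF hc S hM hP hPM hcv no hAS hmin.off hoffW hA₁V

end Cfsg.Agent.Omega.NO3S.AllGood
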