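import Cfsg.Agent.Omega.NOThreeL.Low.Key

/-!
# GammaFF, BETA for FF lines: the passive types (THEOREM PAS: #20445 (P1) helper793, #20425 helper800)

`L = V_{P₀}` the line of the active type, `c = V_{P'}` the line of a passive type `P'` (`W ≤ O₂(P')`, `c ≤ F`).

* `Pre` : the situation; `B ⊴ C_G(F)` the group generated by the good lines, `I = V ∩ B`;
* `Pre.count` : `c^p` bad (`p ∈ P₀`), `V = c^p E`, `a ∈ B^(p⁻¹)`, `g ∈ P'`, `W^(g⁻¹ a⁻¹ g) ≤ C(L)` ⟹ `a` centralises `c`;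
* `Pre.norm_R0` : a bad `c^p` ⟹ `P'` normalises `R₀ = ⟨ρ^S⟩`;
* `Pre.pas` : `c^p ≤ E` for all `p ∈ P₀`.
-/

set_option autoImplicit false
set_option linter.unusedSectionVars false

namespace Cfsg.Agent.Omega.NO3S.Pas

open Subgroup Cfsg Cfsg.Agent.Omega.NoFF.Basic
open Cfsg.Agent.Omega.NOne.NearFF (Near c c_def c_inv)
open Cfsg.Agent.Omega.NOne.Flat (Hyp EE WW NN BadX)
open Cfsg.Agent.Omega.NOThreeL.Low.Key (BH conj_eq_of_norm' norm_conj_mem c_eq_one')
open Cfsg.Agent.ZN (o2)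
open scoped Pointwise

universe u

local notation "cm" => Cfsg.Agent.Omega.NOne.NearFF.c

variable {G : Type u} [Group G] [Finite G]

theorem rne (H K : Subgroup G) : H.relIndex K ≠ 0 := index_ne_zero_of_finite

/-- `V = A J` ⟹ `|V : J| ≤ |A : A ∩ J|` -/
theorem relIndex_le_of_span {V A J : Subgroup G} (h : ∀ v ∈ V, ∃ a ∈ A, a ∈ V ∧ a⁻¹ * v ∈ J) :
    J.relIndex V ≤ J.relIndex A := by
  rw [relIndex, relIndex, index_eq_card, index_eq_card]
  have h' : ∀ v : V, ∃ a : A, (a : G)⁻¹ * v ∈ J := fun v => by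
    obtain ⟨a, ha, -, h1⟩ := h v v.2
    exact ⟨⟨a, ha⟩, h1⟩
  choose f hf using h'
  refine Nat.card_le_card_of_injective
    (fun q : V ⧸ J.subgroupOf V => (QuotientGroup.mk (f (Quotient.out q)) : A ⧸ J.subgroupOf A)) ?_
  intro q q' hq
  have h1 : (QuotientGroup.mk (f (Quotient.out q)) : A ⧸ J.subgroupOf A) = QuotientGroup.mk (f (Quotient.out q')) := hq
  rw [QuotientGroup.eq, mem_subgroupOf] at h1
  rw [← Quotient.out_eq q, ← Quotient.out_eq q']
  change (QuotientGroup.mk (Quotient.out q) : V ⧸ J.subgroupOf V) = QuotientGroup.mk (Quotient.out q')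
  rw [QuotientGroup.eq, mem_subgroupOf]
  have h2 := hf (Quotient.out q)
  have h3 := hf (Quotient.out q')
  have e : (((Quotient.out q)⁻¹ * Quotient.out q' : V) : G) =
      ((f (Quotient.out q) : G)⁻¹ * (Quotient.out q : V))⁻¹ * ((f (Quotient.out q))⁻¹ * f (Quotient.out q') : A) *
        ((f (Quotient.out q') : G)⁻¹ * (Quotient.out q' : V)) := by
    push_cast
    group
  rw [e]
  exact mul_mem (mul_mem (inv_mem h2) h1) h3

theorem conj_iSup_le {ι : Sort*} {H : ι → Subgroup G} {A : Subgroup G} {g : G}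
    (h1 : ∀ i, MulAut.conj g • H i ≤ A) : MulAut.conj g • (⨆ i, H i) ≤ A := by
  have h2 : (⨆ i, H i) ≤ MulAut.conj g⁻¹ • A := iSup_le fun i => by
    have h3 := (conj_le_iff (g := g⁻¹)).2 (h1 i)
    rwa [conj_conj, inv_mul_cancel, map_one, one_smul] at h3
  have h3 := (conj_le_iff (g := g)).2 h2
  rwa [conj_conj, mul_inv_cancel, map_one, one_smul] at h3

theorem relIndex_conj (g : G) (H K : Subgroup G) :
    (MulAut.conj g • H).relIndex (MulAut.conj g • K) = H.relIndex K :=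
  relIndex_pointwise_smul (MulAut.conj g) H K

/-- The situation: active type `P` with line `L`, passive type `P'` with line `c`. -/
structure Pre (S V F B P P' L c : Subgroup G) : Prop extends BH V F B where
  SP : S ≤ P
  SP' : S ≤ P'
  PV : P ≤ normalizer (V : Set G)
  PV' : P' ≤ normalizer (V : Set G)
  PL : P ≤ normalizer (L : Set G)
  Pc : P' ≤ normalizer (c : Set G)
  /-- `C_S(L) = O₂(P)` -/
  PQ : P ≤ normalizer ((S ⊓ centralizer (L : Set G) : Subgroup G) : Set G)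
  WS : WW V F ≤ S
  /-- `W ≤ O₂(P')` -/
  WS' : ∀ g ∈ P', MulAut.conj g • WW V F ≤ S
  /-- `L ≤ E`, `L ≤ I` -/
  LV : L ≤ V
  LB : L ≤ B
  mov : ¬ WW V F ≤ centralizer (L : Set G)
  cF : c ≤ F
  /-- the lines of type `P'` of the chambers which contain `W` are in `B` -/
  line : ∀ y ∈ P ⊔ P', WW V F ≤ MulAut.conj y • S → MulAut.conj y • c ≤ B

namespace Pre

variable {S V F B P P' L c : Subgroup G} (h : Pre S V F B P P' L c)
include h

theorem cV : c ≤ V := h.cF.trans h.toHyp.F_le_V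

theorem L_le_E : L ≤ EE V F := (le_inf h.LV h.LB).trans h.toBH.I_le_E

theorem B_cent_L : B ≤ centralizer (L : Set G) := comm_symm (h.LB.trans h.abel)

theorem B_le_Q : B ≤ S ⊓ centralizer (L : Set G) := le_inf (h.le_W.trans h.WS) h.B_cent_L

theorem conjB_le_Q {p : G} (hp : p ∈ P) : MulAut.conj p • B ≤ S ⊓ centralizer (L : Set G) := by
  have h1 := (conj_le_iff (g := p)).2 h.B_le_Q
  rwa [conj_eq_of_norm' (h.PQ hp)] at h1

theorem not_I_le_F : ¬ V ⊓ B ≤ F := by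
  intro h1
  apply h.mov
  intro s hs
  rw [mem_centralizer_iff]
  intro l hl
  exact Hyp.F_comm (h1 ⟨h.LV hl, h.LB hl⟩) (Hyp.W_le_X hs)

/-- a bad `c^p` is moved by `B` -/
theorem exists_mov {p : G} (hp : p ∈ P) (hbad : ¬ MulAut.conj p • c ≤ EE V F) :
    ∃ b ∈ B, b ∉ centralizer ((MulAut.conj p • c : Subgroup G) : Set G) := by
  by_contra hall
  push Not at hall
  obtain ⟨w, hw, hwE⟩ := SetLike.not_le_iff_exists.1 hbad
  have hcV : MulAut.conj p • c ≤ V := by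
    have h1 := (conj_le_iff (g := p)).2 h.cV
    rwa [conj_eq_of_norm' (h.PV hp)] at h1
  obtain ⟨b, hb, hbN⟩ := h.toBH.exists_not_mem_NN h.not_I_le_F
  refine hbN (h.toBH.mem_NN_of_c (hcV hw) hwE hb ?_)
  rw [c_eq_one' (mem_centralizer_iff.1 (hall b hb) w hw)]
  exact one_mem _

/-- `U₀ = ⟨c^P⟩` -/
def U (_h : Pre S V F B P P' L c) : Subgroup G := ⨆ x : P, MulAut.conj (x : G) • c

theorem conj_le_U {x : G} (hx : x ∈ P) : MulAut.conj x • c ≤ h.U :=
  le_iSup (fun x : P => MulAut.conj (x : G) • c) ⟨x, hx⟩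

theorem U_le {A : Subgroup G} (h1 : ∀ x ∈ P, MulAut.conj x • c ≤ A) : h.U ≤ A := iSup_le fun x => h1 x x.2

theorem conj_U {p : G} (hp : p ∈ P) : MulAut.conj p • h.U ≤ h.U := by
  refine conj_iSup_le fun x => ?_
  rw [conj_conj]
  exact h.conj_le_U (mul_mem hp x.2)

theorem P_norm_U : P ≤ normalizer (h.U : Set G) := by
  intro p hp
  have h1 : MulAut.conj p • h.U = h.U := by
    refine le_antisymm (h.conj_U hp) ?_
    have h2 := (conj_le_iff (g := p)).2 (h.conj_U (inv_mem hp))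
    rwa [conj_conj, mul_inv_cancel, map_one, one_smul] at h2
  rw [mem_normalizer_iff]
  intro x
  constructor
  · intro hx
    rw [← h1, mem_conj]
    have e : p⁻¹ * (p * x * p⁻¹) * p = x := by group
    rwa [e]
  · intro hx
    rw [← h1, mem_conj] at hx
    have e : p⁻¹ * (p * x * p⁻¹) * p = x := by group
    rwa [e] at hx

theorem U_le_V : h.U ≤ V := h.U_le fun x hx => by
  have h1 := (conj_le_iff (g := x)).2 h.cV
  rwa [conj_eq_of_norm' (h.PV hx)] at h1

theorem c_le_U : c ≤ h.U := by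
  have := h.conj_le_U (one_mem P)
  rwa [map_one, one_smul] at this

/-- **(b)** `V = U₀ F` -/
theorem span {p : G} (hp : p ∈ P) (hbad : ¬ MulAut.conj p • c ≤ EE V F)
    (hsp : ∀ v ∈ V, ∃ x ∈ MulAut.conj p • c, ∃ e ∈ EE V F, v = x * e) {v : G} (hv : v ∈ V) :
    ∃ x ∈ h.U, x⁻¹ * v ∈ F := by
  obtain ⟨w, hw, hwE⟩ := SetLike.not_le_iff_exists.1 hbad
  have hwU : w ∈ h.U := h.conj_le_U hp hw
  obtain ⟨x, hx, e, he, rfl⟩ := hsp v hv
  obtain ⟨s, hs, hse⟩ := h.toHyp.surj (h.U_le_V hwU) hwE he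
  refine ⟨x * cm w s, mul_mem (h.conj_le_U hp hx) ?_, ?_⟩
  · exact NOThreeL.Low.Key.c_mem_left hwU (h.P_norm_U (h.SP (h.WS hs)))
  · have e1 : (x * cm w s)⁻¹ * (x * e) = (cm w s)⁻¹ * e := by group
    rw [e1]
    exact h.toHyp.inv_mul_mem (h.toHyp.c_memV (h.U_le_V hwU) hs) he.1 hse

/-- **(c)** `W^k ≤ C(L)` ⟹ `U₀ ≤ I^k` -/
theorem U_le_conj {k : G} (hk : k ∈ P') (hQ : MulAut.conj k • WW V F ≤ centralizer (L : Set G)) :
    h.U ≤ MulAut.conj k • (V ⊓ B) := by
  refine h.U_le fun x hx => ?_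
  have h1 : MulAut.conj k • WW V F ≤ MulAut.conj x • S := by
    have h2 : MulAut.conj k • WW V F ≤ S ⊓ centralizer (L : Set G) := le_inf (h.WS' k hk) hQ
    rw [← conj_eq_of_norm' (h.PQ hx)] at h2
    exact h2.trans (conj_le_iff.2 inf_le_left)
  have h2 : WW V F ≤ MulAut.conj (k⁻¹ * x) • S := by
    have h3 := (conj_le_iff (g := k⁻¹)).2 h1
    rwa [conj_conj, conj_conj, inv_mul_cancel, map_one, one_smul] at h3
  have h3 : MulAut.conj (k⁻¹ * x) • c ≤ B :=
    h.line _ (mul_mem ((le_sup_right : P' ≤ P ⊔ P') (inv_mem hk)) ((le_sup_left : P ≤ P ⊔ P') hx)) h2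
  have h4 : MulAut.conj x • c ≤ MulAut.conj k • B := by
    have h5 := (conj_le_iff (g := k)).2 h3
    rwa [conj_conj, mul_inv_cancel_left] at h5
  have h5 : MulAut.conj x • c ≤ MulAut.conj k • V := by
    rw [conj_eq_of_norm' (h.PV' hk)]
    exact (h.conj_le_U hx).trans h.U_le_V
  rw [Subgroup.smul_inf]
  exact le_inf h5 h4

/-- **(d)** the count -/
theorem count {p : G} (hp : p ∈ P) (hbad : ¬ MulAut.conj p • c ≤ EE V F)
    (hsp : ∀ v ∈ V, ∃ x ∈ MulAut.conj p • c, ∃ e ∈ EE V F, v = x * e) {a g : G} (ha : p * a * p⁻¹ ∈ B)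
    (haP : a ∈ P') (hg : g ∈ P') (hQ : MulAut.conj (g⁻¹ * a⁻¹ * g) • WW V F ≤ centralizer (L : Set G)) :
    a ∈ centralizer (c : Set G) := by
  set A : Subgroup G := MulAut.conj g • h.U with hA
  set J : Subgroup G := MulAut.conj g • (V ⊓ B) with hJ
  have hk : g⁻¹ * a⁻¹ * g ∈ P' := mul_mem (mul_mem (inv_mem hg) (inv_mem haP)) hg
  have hAV : A ≤ V := by
    have h1 := (conj_le_iff (g := g)).2 h.U_le_V
    rwa [conj_eq_of_norm' (h.PV' hg)] at h1
  have hC : A ⊓ centralizer ({a} : Set G) ≤ A ⊓ J := by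
    rintro x ⟨hxA, hxa⟩
    refine ⟨hxA, ?_⟩
    have h1 : g⁻¹ * x * g ∈ h.U := mem_conj.1 hxA
    have h2 := h.U_le_conj hk hQ h1
    rw [mem_conj] at h2
    change x ∈ J
    rw [hJ, mem_conj]
    have h3 : a * x = x * a := mem_centralizer_iff.1 hxa a rfl
    have e : (g⁻¹ * a⁻¹ * g)⁻¹ * (g⁻¹ * x * g) * (g⁻¹ * a⁻¹ * g) = g⁻¹ * (a * x * a⁻¹) * g := by group
    rw [e, h3, mul_inv_cancel_right] at h2
    exact h2
  -- `|V : I^g| ≤ |A : A ∩ I^g|`
  have h1 : J.relIndex V ≤ J.relIndex A := by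
    refine relIndex_le_of_span fun v hv => ?_
    have hv' : g⁻¹ * v * g ∈ V := by
      rw [← mem_conj, conj_eq_of_norm' (h.PV' hg)]
      exact hv
    obtain ⟨x, hx, hxF⟩ := h.span hp hbad hsp hv'
    refine ⟨g * x * g⁻¹, ?_, ?_, ?_⟩
    · rw [hA, mem_conj]
      have e : g⁻¹ * (g * x * g⁻¹) * g = x := by group
      rwa [e]
    · exact hAV (by rw [hA, mem_conj]; have e : g⁻¹ * (g * x * g⁻¹) * g = x := by group
                    rwa [e])
    · rw [hJ, mem_conj]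
      have e : g⁻¹ * ((g * x * g⁻¹)⁻¹ * v) * g = x⁻¹ * (g⁻¹ * v * g) := by group
      rw [e]
      exact h.toBH.F_le_I hxF
  -- `|V : C_V(a)| ≤ |V : I|`
  have h2 : (centralizer ({a} : Set G)).relIndex V ≤ J.relIndex V := by
    have h3 : MulAut.conj p⁻¹ • (V ⊓ B) ≤ centralizer ({a} : Set G) := by
      intro x hx
      rw [mem_conj, inv_inv] at hx
      rw [mem_centralizer_iff]
      rintro y rfl
      have h4 := h.toBH.B_comm ha hx.2
      have h5 : p * (y * x) * p⁻¹ = p * (x * y) * p⁻¹ := by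
        calc p * (y * x) * p⁻¹ = p * y * p⁻¹ * (p * x * p⁻¹) := by group
          _ = p * x * p⁻¹ * (p * y * p⁻¹) := h4
          _ = p * (x * y) * p⁻¹ := by group
      exact mul_left_cancel (mul_right_cancel h5)
    have h4 : J.relIndex V = (MulAut.conj p⁻¹ • (V ⊓ B)).relIndex V := by
      have e1 := relIndex_conj g (V ⊓ B) V
      have e2 := relIndex_conj p⁻¹ (V ⊓ B) V
      rw [conj_eq_of_norm' (h.PV' hg)] at e1
      rw [conj_eq_of_norm' (h.PV (inv_mem hp))] at e2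
      rw [hJ, e1, e2]
    rw [h4]
    exact relIndex_le_of_le_left h3 (rne _ _)
  have h3 : (centralizer ({a} : Set G)).relIndex A ≤ (centralizer ({a} : Set G)).relIndex V :=
    relIndex_le_of_le_right hAV (rne _ _)
  have h4 : (A ⊓ centralizer ({a} : Set G)).relIndex (A ⊓ J) * (A ⊓ J).relIndex A =
      (A ⊓ centralizer ({a} : Set G)).relIndex A := relIndex_mul_relIndex _ _ _ hC inf_le_left
  rw [inf_relIndex_left, inf_relIndex_left] at h4
  have h5 := Nat.pos_of_ne_zero (rne J V)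
  have h6 : (A ⊓ centralizer ({a} : Set G)).relIndex (A ⊓ J) ≤ 1 := by
    by_contra hcon
    push Not at hcon
    have h7 := Nat.mul_le_mul hcon h1
    omega
  have h7 : A ⊓ J ≤ A ⊓ centralizer ({a} : Set G) := by
    have h8 := rne (A ⊓ centralizer ({a} : Set G)) (A ⊓ J)
    exact relIndex_eq_one.1 (by omega)
  -- `c ≤ A ∩ I^g`
  rw [mem_centralizer_iff]
  intro x hx
  have hxg : g⁻¹ * x * g ∈ c := by
    rw [← mem_conj, conj_eq_of_norm' (h.Pc hg)]
    exact hx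
  have h8 : x ∈ A ⊓ J := by
    refine ⟨?_, ?_⟩
    · change x ∈ A
      rw [hA, mem_conj]
      exact h.c_le_U hxg
    · change x ∈ J
      rw [hJ, mem_conj]
      exact h.toBH.F_le_I (h.cF hxg)
  exact (mem_centralizer_iff.1 (h7 h8).2 a rfl).symm

/-- **(e)** `P'` normalises `R₀ = ⟨ρ^S⟩`. `dich`: `W^k` centralises `L` or has its centre in `ρ^S`. -/
theorem norm_R0 {rho R₀ : Subgroup G}
    (dich : ∀ k ∈ P', MulAut.conj k • WW V F ≤ centralizer (L : Set G) ∨
      ∃ s ∈ S, MulAut.conj k • rho = MulAut.conj s • rho)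
    (hR₀ : R₀ = ⨆ s : S, MulAut.conj (s : G) • rho)
    (min : ∀ N : Subgroup G, N ≤ P' → P' ≤ normalizer (N : Set G) →
      (∃ a ∈ N, a ∈ S ∧ a ∉ centralizer (c : Set G)) → P' ≤ N ⊔ S)
    {p : G} (hp : p ∈ P) (hbad : ¬ MulAut.conj p • c ≤ EE V F)
    (hsp : ∀ v ∈ V, ∃ x ∈ MulAut.conj p • c, ∃ e ∈ EE V F, v = x * e) : P' ≤ normalizer (R₀ : Set G) := by
  obtain ⟨b, hb, hbc⟩ := h.exists_mov hp hbad
  -- `a = b^(p⁻¹)`
  have haQ : p⁻¹ * b * p ∈ S ⊓ centralizer (L : Set G) := by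
    have h1 := h.conjB_le_Q (inv_mem hp)
    refine h1 ?_
    rw [mem_conj]
    have e : (p⁻¹)⁻¹ * (p⁻¹ * b * p) * p⁻¹ = b := by group
    rwa [e]
  set a := p⁻¹ * b * p with ha
  have haB : p * a * p⁻¹ ∈ B := by
    have e : p * a * p⁻¹ = b := by rw [ha]; group
    rwa [e]
  have hac : a ∉ centralizer (c : Set G) := by
    intro h1
    apply hbc
    rw [mem_centralizer_iff] at h1 ⊢
    intro x hx
    have h2 := h1 _ (mem_conj.1 hx)
    have h3 : p * (p⁻¹ * x * p * a) * p⁻¹ = p * (a * (p⁻¹ * x * p)) * p⁻¹ := by rw [h2]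
    have e1 : p * (p⁻¹ * x * p * a) * p⁻¹ = x * b := by rw [ha]; group
    have e2 : p * (a * (p⁻¹ * x * p)) * p⁻¹ = b * x := by rw [ha]; group
    rw [e1, e2] at h3
    exact h3
  have haP : a ∈ P' := h.SP' haQ.1
  -- the conjugates of `a`
  set Γ : Set G := {k | ∃ g ∈ P', k = g⁻¹ * a⁻¹ * g} with hΓ
  have hΓP : ∀ k ∈ Γ, k ∈ P' := by
    rintro k ⟨g, hg, rfl⟩
    exact mul_mem (mul_mem (inv_mem hg) (inv_mem haP)) hg
  have hΓr : ∀ k ∈ Γ, ∃ s ∈ S, MulAut.conj k • rho = MulAut.conj s • rho := by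
    intro k hk
    have hkP := hΓP k hk
    obtain ⟨g, hg, rfl⟩ := hk
    rcases dich _ hkP with h1 | h1
    · exact absurd (h.count hp hbad hsp haB haP hg h1) hac
    · exact h1
  have hΓc : ∀ k ∈ Γ, ∀ s ∈ P', s⁻¹ * k * s ∈ Γ := by
    rintro k ⟨g, hg, rfl⟩ s hs
    exact ⟨g * s, mul_mem hg hs, by group⟩
  -- each `k ∈ Γ` normalises `R₀`
  have key : ∀ k ∈ Γ, MulAut.conj k • R₀ ≤ R₀ := by
    intro k hk
    rw [hR₀]
    refine conj_iSup_le fun s => ?_
    rw [conj_conj]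
    obtain ⟨t, ht, h1⟩ := hΓr _ (hΓc k hk s (h.SP' s.2))
    have e : k * (s : G) = s * ((s : G)⁻¹ * k * s) := by group
    rw [e, ← conj_conj, h1, conj_conj]
    exact le_iSup (fun s : S => MulAut.conj (s : G) • rho) ⟨(s : G) * t, mul_mem s.2 ht⟩
  have keyS : ∀ s ∈ S, MulAut.conj s • R₀ ≤ R₀ := by
    intro s hs
    rw [hR₀]
    refine conj_iSup_le fun t => ?_
    rw [conj_conj]
    exact le_iSup (fun s : S => MulAut.conj (s : G) • rho) ⟨s * (t : G), mul_mem hs t.2⟩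
  have hn : ∀ k : G, MulAut.conj k • R₀ ≤ R₀ → k ∈ normalizer (R₀ : Set G) := by
    intro k hk
    have h1 : MulAut.conj k • R₀ = R₀ := by
      refine Subgroup.eq_of_le_of_card_ge hk ?_
      rw [NOne.Choice.card_conj]
    rw [mem_normalizer_iff]
    intro x
    constructor
    · intro hx
      rw [← h1, mem_conj]
      have e : k⁻¹ * (k * x * k⁻¹) * k = x := by group
      rwa [e]
    · intro hx
      rw [← h1, mem_conj] at hx
      have e : k⁻¹ * (k * x * k⁻¹) * k = x := by group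
      rwa [e] at hx
  -- `P' = ⟨Γ⟩ S`
  have h1 : P' ≤ closure Γ ⊔ S := by
    refine min _ ((closure_le _).2 hΓP) ?_ ⟨a⁻¹, subset_closure ⟨1, one_mem _, by group⟩, inv_mem haQ.1, fun h2 => hac ?_⟩
    · intro s hs
      have h2 : ∀ t ∈ P', ∀ x ∈ closure Γ, t * x * t⁻¹ ∈ closure Γ := by
        intro t ht x hx
        induction hx using closure_induction with
        | mem x hx =>
          have h3 := hΓc x hx t⁻¹ (inv_mem ht)
          rw [inv_inv] at h3
          exact subset_closure h3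
        | one => rw [mul_one, mul_inv_cancel]; exact one_mem _
        | mul x y _ _ hx hy =>
          have e : t * (x * y) * t⁻¹ = t * x * t⁻¹ * (t * y * t⁻¹) := by group
          rw [e]
          exact mul_mem hx hy
        | inv x _ hx =>
          have e : t * x⁻¹ * t⁻¹ = (t * x * t⁻¹)⁻¹ := by group
          rw [e]
          exact inv_mem hx
      rw [mem_normalizer_iff]
      intro x
      refine ⟨h2 s hs x, fun hx => ?_⟩
      have h3 := h2 s⁻¹ (inv_mem hs) _ hx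
      have e : s⁻¹ * (s * x * s⁻¹) * s⁻¹⁻¹ = x := by group
      rwa [e] at h3
    · have := inv_mem h2
      rwa [inv_inv] at this
  refine h1.trans (sup_le ((closure_le _).2 fun k hk => hn k (key k hk)) fun s hs => hn s (keyS s hs))

/-- **THEOREM PAS**: every `c^p`, `p ∈ P`, is good. -/
theorem pas {rho R₀ Z : Subgroup G}
    (dich : ∀ k ∈ P', MulAut.conj k • WW V F ≤ centralizer (L : Set G) ∨
      ∃ s ∈ S, MulAut.conj k • rho = MulAut.conj s • rho)
    (hR₀ : R₀ = ⨆ s : S, MulAut.conj (s : G) • rho) (hrL : rho ≤ L)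
    (min : ∀ N : Subgroup G, N ≤ P' → P' ≤ normalizer (N : Set G) →
      (∃ a ∈ N, a ∈ S ∧ a ∉ centralizer (c : Set G)) → P' ≤ N ⊔ S)
    (hZ : Z ≤ R₀) (hc : ∀ X : Subgroup G, P' ≤ normalizer (X : Set G) → Z ≤ X → c ≤ X)
    {p : G} (hp : p ∈ P)
    (hsp : ¬ MulAut.conj p • c ≤ EE V F → ∀ v ∈ V, ∃ x ∈ MulAut.conj p • c, ∃ e ∈ EE V F, v = x * e) :
    MulAut.conj p • c ≤ EE V F := by
  by_contra hbad
  have h1 : c ≤ L := by
    refine (hc _ (h.norm_R0 dich hR₀ min hp hbad (hsp hbad)) hZ).trans ?_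
    rw [hR₀]
    refine iSup_le fun s => ?_
    have h2 := (conj_le_iff (g := (s : G))).2 hrL
    rwa [conj_eq_of_norm' (h.PL (h.SP s.2))] at h2
  apply hbad
  have h2 := (conj_le_iff (g := p)).2 h1
  rw [conj_eq_of_norm' (h.PL hp)] at h2
  exact h2.trans h.L_le_E

end Pre

end Cfsg.Agent.Omega.NO3S.Pas
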