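import Cfsg.Agent.Omega.NO3S.Act.PasEnd

/-!
# GammaFF, THEOREM W (#21003, helper424), part (A): a passive type `P'` normalises `R₀`

`Pre S V F B P P' L c` (PasCore) with the blocks `N i ≥ R i` of the active line `L`, permuted by `S`;
`W` acts on `L` in the block `N i₀`, with centre `ρ = R i₀`; every `W^k`, `k ∈ P'`, centralises `L` or acts in the
block `N i` with `R i = ρ^k`.  `R₀ = ⟨ρ^S⟩`, `R* = ⟨ρ^{P'}⟩`, `p ∈ P` generic: `ρ_p = ρ^(p⁻¹) ≤ N i₀`,
`ρ_p ∩ R₀ = 1`, `P = ⟨S, W_p⟩`, `B_p ≤ S^g` for `g ∈ P'`.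

* `Sit.cent_R₀` : `W^k ≤ C(R₀)` for `k ∈ P'`; `Sit.Rs_le_conjF` : `R* ≤ F^s`; `Sit.Rs_inf_L` : `R* ∩ L ≤ R₀`;
* `Sit.a1` **(A1)** : `R* ≤ E_p`;
* `Sit.a2` **(A2)** : `R* ≤ L`; `Sit.Rs_eq` : `R* = R₀`; `Sit.norm_R₀` : `P' ≤ N(R₀)`;
* `Sit.c_le` : `c ≤ R₀`; `Sit.norm_B₀` : `P'` normalises `B₀ = C_S(R₀)`; `Sit.conjB_le_B₀`, `Sit.conjW_le_B₀`,
  `Sit.Q_le_B₀`.

No case distinction natural / `S_n`, `q = 2` / `q > 2`: if `b ∈ B_p` moves the block `N_ω` to `N_ω'`, then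
`v ↦ [v, b]` is injective on `N_ω`, `|N_ω| = q² ≥ |D_p|`, so `D_p = {[v, b] : v ∈ N_ω} ≥ ρ_p`.
-/

set_option autoImplicit false
set_option linter.unusedSectionVars false

namespace Cfsg.Agent.Omega.NO3S.ThmWA

open Subgroup Cfsg Cfsg.Agent.Omega.NoFF.Basic
open Cfsg.Agent.Omega.NOne.Flat (Hyp EE WW NN BadX)
open Cfsg.Agent.Omega.NOThreeL.Low.Key (BH conj_eq_of_norm' norm_conj_mem c_eq_one' comm_of_c)
open Cfsg.Agent.Omega.NO3S.Pas (Pre mem_sup_of_norm conj_iSup_le)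
open scoped Pointwise

universe u v

local notation "cm" => Cfsg.Agent.Omega.NOne.NearFF.c

variable {G : Type u} [Group G] [Finite G]

/-- `R₀ = ⟨ρ^S⟩`, `R* = ⟨ρ^{P'}⟩` -/
abbrev spanC (ρ S : Subgroup G) : Subgroup G := ⨆ s : S, MulAut.conj (s : G) • ρ

theorem conj_le_spanC {ρ S : Subgroup G} {s : G} (hs : s ∈ S) : MulAut.conj s • ρ ≤ spanC ρ S :=
  le_iSup (fun s : S => MulAut.conj (s : G) • ρ) ⟨s, hs⟩

theorem le_spanC {ρ S : Subgroup G} : ρ ≤ spanC ρ S := by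
  have := conj_le_spanC (ρ := ρ) (one_mem S)
  rwa [map_one, one_smul] at this

theorem spanC_mono {ρ S T : Subgroup G} (h : S ≤ T) : spanC ρ S ≤ spanC ρ T :=
  iSup_le fun s => conj_le_spanC (h s.2)

theorem norm_of_conj_le {A P : Subgroup G} (h : ∀ p ∈ P, MulAut.conj p • A ≤ A) : P ≤ normalizer (A : Set G) := by
  intro p hp
  rw [mem_normalizer_iff]
  intro x
  constructor
  · intro hx
    refine h p hp ?_
    rw [mem_conj]
    have e : p⁻¹ * (p * x * p⁻¹) * p = x := by group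
    rwa [e]
  · intro hx
    refine h _ (inv_mem hp) ?_
    rw [mem_conj, inv_inv]
    exact hx

theorem norm_spanC (ρ S : Subgroup G) : S ≤ normalizer (spanC ρ S : Set G) :=
  norm_of_conj_le fun p hp => conj_iSup_le fun s => by
    rw [conj_conj]
    exact conj_le_spanC (mul_mem hp s.2)

theorem spanC_le {ρ S A : Subgroup G} (h : S ≤ normalizer (A : Set G)) (hA : ρ ≤ A) : spanC ρ S ≤ A :=
  iSup_le fun s => by
    have h1 := (conj_le_iff (g := (s : G))).2 hA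
    rwa [conj_eq_of_norm' (h s.2)] at h1

theorem conj_cent {g : G} {A X : Subgroup G} (h : MulAut.conj g • A ≤ centralizer (X : Set G)) :
    A ≤ centralizer ((MulAut.conj g⁻¹ • X : Subgroup G) : Set G) := by
  have h1 := conj_le_centralizer (g := g⁻¹) h
  rwa [conj_conj, inv_mul_cancel, map_one, one_smul] at h1

theorem conj_cent' {g : G} {A X : Subgroup G} (h : A ≤ centralizer ((MulAut.conj g⁻¹ • X : Subgroup G) : Set G)) :
    MulAut.conj g • A ≤ centralizer (X : Set G) := by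
  have h1 := conj_le_centralizer (g := g) h
  rwa [conj_conj, mul_inv_cancel, map_one, one_smul] at h1

theorem moves_conj {A : Subgroup G} {d : G} (k : G) (h : ∃ a ∈ A, a * d ≠ d * a) :
    ∃ a ∈ MulAut.conj k • A, a * (k * d * k⁻¹) ≠ k * d * k⁻¹ * a := by
  obtain ⟨a, ha, hne⟩ := h
  refine ⟨k * a * k⁻¹, ?_, fun h1 => hne ?_⟩
  · rw [mem_conj]
    have e : k⁻¹ * (k * a * k⁻¹) * k = a := by group
    rwa [e]
  · have h2 : k * (a * d) * k⁻¹ = k * (d * a) * k⁻¹ := by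
      calc k * (a * d) * k⁻¹ = k * a * k⁻¹ * (k * d * k⁻¹) := by group
        _ = k * d * k⁻¹ * (k * a * k⁻¹) := h1
        _ = k * (d * a) * k⁻¹ := by group
    exact mul_left_cancel (mul_right_cancel h2)

/-- The situation of (A). -/
structure Sit (S V F B P P' L c : Subgroup G) (ρ D : Subgroup G) {ι : Type v} (R N : ι → Subgroup G) (i₀ : ι)
    (q : ℕ) : Prop extends Pre S V F B P P' L c where
  /- the blocks of `L` -/
  RN : ∀ i, R i ≤ N i
  NL : ∀ i, N i ≤ L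
  ind : ∀ i j, i ≠ j → N i ⊓ N j = ⊥
  perm : ∀ s ∈ S, ∀ i, ∃ j, MulAut.conj s • N i = N j ∧ MulAut.conj s • R i = R j
  root : R i₀ = ρ
  cardR : Nat.card ρ ≤ q
  cardN : q ^ 2 ≤ Nat.card (N i₀)
  /- `W` acts in the block `N i₀`, with centre `ρ` -/
  rF : ρ ≤ F
  cN : ∀ j, j ≠ i₀ → WW V F ≤ centralizer (N j : Set G)
  cNi : N i₀ ⊓ centralizer (WW V F : Set G) ≤ ρ
  dich : ∀ k ∈ P', MulAut.conj k • WW V F ≤ centralizer (L : Set G) ∨
    ∃ i, MulAut.conj k • ρ = R i ∧ ∀ j, j ≠ i → MulAut.conj k • WW V F ≤ centralizer (N j : Set G)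
  fix : L ⊓ centralizer ((spanC (WW V F) S : Subgroup G) : Set G) ≤ spanC ρ S
  /- `B` on `V` -/
  cIW : ∀ r ∈ V ⊓ B, ∀ s ∈ WW V F, cm r s ∈ ρ
  cEB : ∀ e ∈ EE V F, ∀ b ∈ B, cm e b ∈ ρ
  wB : ∀ w ∈ V, w ∉ EE V F → q ≤ {y : G | ∃ b ∈ B, cm w b = y}.ncard
  centB : V ⊓ centralizer (B : Set G) ≤ B
  memD : ∀ w ∈ V, ∀ b ∈ B, cm w b ∈ D
  rD : ρ ≤ D
  cardD : Nat.card D ≤ q ^ 2

namespace Sit

variable {S V F B P P' L c ρ D : Subgroup G} {ι : Type v} {R N : ι → Subgroup G} {i₀ : ι} {q : ℕ}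
  (h : Sit S V F B P P' L c ρ D R N i₀ q)
include h

theorem r_le_L : ρ ≤ L := by
  rw [← h.root]
  exact (h.RN i₀).trans (h.NL i₀)

theorem R₀_le_L : spanC ρ S ≤ L := spanC_le (h.SP.trans h.PL) h.r_le_L

theorem Rs_le_V : spanC ρ P' ≤ V := spanC_le h.PV' (h.r_le_L.trans h.LV)

theorem r_ne_bot : ρ ≠ ⊥ := by
  intro h0
  apply h.not_I_le_F
  intro x hx
  have h1 := h.toHyp.cent_VW
  rw [← h1]
  refine mem_inf.2 ⟨hx.1, ?_⟩
  rw [mem_centralizer_iff]
  intro s hs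
  have h2 := h.cIW x hx s hs
  rw [h0, mem_bot] at h2
  exact (comm_of_c h2).symm

/-- all `W^k`, `k ∈ P'`, centralise `R₀` -/
theorem cent_R₀ {k : G} (hk : k ∈ P') : MulAut.conj k • WW V F ≤ centralizer ((spanC ρ S : Subgroup G) : Set G) := by
  refine comm_symm ?_
  rcases h.dich k hk with h1 | ⟨i, hi, h1⟩
  · exact h.R₀_le_L.trans (comm_symm h1)
  · refine iSup_le fun s => ?_
    obtain ⟨j, -, hj⟩ := h.perm s s.2 i₀
    rw [h.root] at hj
    rw [hj]
    by_cases hji : j = i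
    · rw [hji, ← hi]
      refine conj_le_centralizer ?_
      exact fun x hx => mem_centralizer_iff.2 fun s hs => (Hyp.F_comm (h.rF hx) (Hyp.W_le_X hs)).symm
    · exact (h.RN j).trans (comm_symm (h1 j hji))

theorem Rs_cent {s : G} (hs : s ∈ P') : spanC ρ P' ≤ centralizer ((MulAut.conj s • WW V F : Subgroup G) : Set G) := by
  refine iSup_le fun y => ?_
  have h1 := h.cent_R₀ (mul_mem (inv_mem y.2) hs)
  rw [← conj_conj] at h1
  have h2 := conj_cent h1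
  rw [inv_inv] at h2
  exact ((conj_le_iff (g := (y : G))).2 le_spanC).trans (comm_symm h2)

/-- `R* ≤ F^s` -/
theorem Rs_le_conjF {s : G} (hs : s ∈ P') : spanC ρ P' ≤ MulAut.conj s • F := by
  have h1 : spanC ρ P' ≤ V ⊓ centralizer ((MulAut.conj s • WW V F : Subgroup G) : Set G) :=
    le_inf h.Rs_le_V (h.Rs_cent hs)
  refine h1.trans ?_
  intro x hx
  rw [mem_conj]
  have h2 := h.toHyp.cent_VW
  rw [← h2]
  refine mem_inf.2 ⟨?_, ?_⟩
  · rw [← mem_conj, conj_eq_of_norm' (h.PV' hs)]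
    exact hx.1
  · rw [mem_centralizer_iff]
    intro w hw
    have h3 := mem_centralizer_iff.1 hx.2 (s * w * s⁻¹) (by
      rw [SetLike.mem_coe, mem_conj]
      have e : s⁻¹ * (s * w * s⁻¹) * s = w := by group
      rwa [e])
    calc w * (s⁻¹ * x * s) = s⁻¹ * (s * w * s⁻¹ * x) * s := by group
      _ = s⁻¹ * (x * (s * w * s⁻¹)) * s := by rw [h3]
      _ = s⁻¹ * x * s * w := by group

theorem Rs_le_F : spanC ρ P' ≤ F := by
  have := h.Rs_le_conjF (one_mem P')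
  rwa [map_one, one_smul] at this

/-- `R* ∩ L ≤ R₀` -/
theorem Rs_inf_L : L ⊓ spanC ρ P' ≤ spanC ρ S := by
  refine le_trans (le_inf inf_le_left (inf_le_right.trans ?_)) h.fix
  refine comm_symm (iSup_le fun s => ?_)
  exact comm_symm (h.Rs_cent (h.SP' s.2))

/-- the block of `L^k` in which `W^k` acts: `W` and `W^t` move `v v^t` if `t` moves the block of `v ∉ ρ` -/
theorem moves {t v : G} (ht : t ∈ S) {i : ι} (hi : i ≠ i₀) (hN : MulAut.conj t • N i₀ = N i) (hv : v ∈ N i₀)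
    (hvr : v ∉ ρ) : (∃ w ∈ WW V F, w * cm v t ≠ cm v t * w) ∧
      ∃ w ∈ MulAut.conj t • WW V F, w * cm v t ≠ cm v t * w := by
  -- some `w ∈ W` moves `v`
  obtain ⟨w, hw, hwv⟩ : ∃ w ∈ WW V F, w * v ≠ v * w := by
    by_contra hall
    push Not at hall
    exact hvr (h.cNi ⟨hv, mem_centralizer_iff.2 fun w hw => hall w hw⟩)
  have hti : t * v⁻¹ * t⁻¹ ∈ N i := by
    rw [← hN, mem_conj]
    have e : t⁻¹ * (t * v⁻¹ * t⁻¹) * t = v⁻¹ := by group
    rw [e]
    exact inv_mem hv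
  have e0 : cm v t = v * (t * v⁻¹ * t⁻¹) := by rw [NOne.NearFF.c]; group
  refine ⟨⟨w, hw, fun h1 => hwv ?_⟩, ?_⟩
  · have h2 : (t * v⁻¹ * t⁻¹) * w = w * (t * v⁻¹ * t⁻¹) :=
      mem_centralizer_iff.1 (h.cN i hi hw) _ hti
    rw [e0] at h1
    have h3 : w * v * (t * v⁻¹ * t⁻¹) = v * w * (t * v⁻¹ * t⁻¹) := by
      calc w * v * (t * v⁻¹ * t⁻¹) = w * (v * (t * v⁻¹ * t⁻¹)) := by group
        _ = v * (t * v⁻¹ * t⁻¹) * w := h1
        _ = v * ((t * v⁻¹ * t⁻¹) * w) := by group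
        _ = v * w * (t * v⁻¹ * t⁻¹) := by rw [h2]; group
    exact mul_right_cancel h3
  · -- `W` centralises `v^(t⁻¹)`
    obtain ⟨l, hl, -⟩ := h.perm t⁻¹ (inv_mem ht) i₀
    have hli : l ≠ i₀ := by
      rintro rfl
      have h1 : MulAut.conj t • N l = N l := by
        have h2 : MulAut.conj t • (MulAut.conj t⁻¹ • N l) = MulAut.conj t • N l := by rw [hl]
        rw [conj_conj, mul_inv_cancel, map_one, one_smul] at h2
        exact h2.symm
      rw [hN] at h1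
      have h2 := h.ind i l hi
      rw [h1, inf_idem] at h2
      rw [h2, mem_bot] at hv
      exact hvr (hv ▸ one_mem ρ)
    have hvl : t⁻¹ * v * t ∈ N l := by
      rw [← hl, mem_conj, inv_inv]
      have e : t * (t⁻¹ * v * t) * t⁻¹ = v := by group
      rwa [e]
    refine ⟨t * w * t⁻¹, ?_, fun h1 => hwv ?_⟩
    · rw [mem_conj]
      have e : t⁻¹ * (t * w * t⁻¹) * t = w := by group
      rwa [e]
    · have h2 : (t⁻¹ * v * t) * w = w * (t⁻¹ * v * t) := mem_centralizer_iff.1 (h.cN l hli hw) _ hvl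
      have h3 : v * (t * w * t⁻¹) = t * w * t⁻¹ * v := by
        calc v * (t * w * t⁻¹) = t * ((t⁻¹ * v * t) * w) * t⁻¹ := by group
          _ = t * (w * (t⁻¹ * v * t)) * t⁻¹ := by rw [h2]
          _ = t * w * t⁻¹ * v := by group
      rw [e0] at h1
      have h4 : v * (t * (w * v⁻¹) * t⁻¹) = v * (t * (v⁻¹ * w) * t⁻¹) := by
        calc v * (t * (w * v⁻¹) * t⁻¹) = v * (t * w * t⁻¹) * (t * v⁻¹ * t⁻¹) := by group
          _ = t * w * t⁻¹ * v * (t * v⁻¹ * t⁻¹) := by rw [h3]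
          _ = t * w * t⁻¹ * (v * (t * v⁻¹ * t⁻¹)) := by group
          _ = v * (t * v⁻¹ * t⁻¹) * (t * w * t⁻¹) := h1
          _ = v * (t * (v⁻¹ * w) * t⁻¹) := by group
      have h5 : w * v⁻¹ = v⁻¹ * w := mul_left_cancel (mul_right_cancel (mul_left_cancel h4))
      calc w * v = v * (v⁻¹ * w) * v := by group
        _ = v * (w * v⁻¹) * v := by rw [h5]
        _ = v * w := by group

/-- `R i₀ ≠ R i` -/
theorem R_ne {i : ι} (hi : i ≠ i₀) : R i ≠ ρ := by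
  intro h1
  have h2 := h.ind i i₀ hi
  apply h.r_ne_bot
  rw [eq_bot_iff, ← h2]
  refine le_inf ?_ ?_
  · rw [← h1]; exact h.RN i
  · rw [← h.root]; exact h.RN i₀

/-- `W^k`, `k ∈ P'`, moves an element of `N i₀`: then `ρ^k = ρ` -/
theorem root_of_moves {k d : G} (hk : k ∈ P') (hd : d ∈ N i₀)
    (hm : ∃ a ∈ MulAut.conj k • WW V F, a * d ≠ d * a) : MulAut.conj k • ρ = ρ := by
  obtain ⟨a, ha, hne⟩ := hm
  rcases h.dich k hk with h1 | ⟨i, hi, h1⟩
  · exact absurd (mem_centralizer_iff.1 (h1 ha) d (h.NL i₀ hd)).symm hne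
  · by_cases hii : i₀ = i
    · rw [hi, ← hii, h.root]
    · exact absurd (mem_centralizer_iff.1 (h1 i₀ hii ha) d hd).symm hne

/-- **(A1)** `R* ≤ E_p` -/
theorem a1 {p : G} (hp : p ∈ P) (hpN : MulAut.conj p • ρ ≤ N i₀) (hpR : MulAut.conj p • ρ ⊓ spanC ρ S = ⊥)
    (hBS : ∀ g ∈ P', MulAut.conj p • B ≤ MulAut.conj g • S) : spanC ρ P' ≤ MulAut.conj p • EE V F := by
  refine iSup_le fun y => ?_
  by_contra hbad
  obtain ⟨z, hz, hzE⟩ := SetLike.not_le_iff_exists.1 hbad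
  have hy := y.2
  -- the frame of `B`
  set m : G := p⁻¹ * (y : G) with hm
  set x : G := p⁻¹ * z * p with hx
  have hxρ : x ∈ MulAut.conj m • ρ := by
    rw [mem_conj] at hz ⊢
    have e : m⁻¹ * x * m = (y : G)⁻¹ * z * y := by rw [hm, hx]; group
    rwa [e]
  have hxE : x ∉ EE V F := fun h1 => hzE (mem_conj.2 h1)
  have hmV : m ∈ normalizer (V : Set G) := mul_mem (h.PV (inv_mem hp)) (h.PV' hy)
  have hrV : ρ ≤ V := h.r_le_L.trans h.LV
  have hmρV : MulAut.conj m • ρ ≤ V := by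
    have h1 := (conj_le_iff (g := m)).2 hrV
    rwa [conj_eq_of_norm' hmV] at h1
  have hxV : x ∈ V := hmρV hxρ
  have hBm : ∀ b ∈ B, m⁻¹ * b * m ∈ S := by
    intro b hb
    have h1 : p * b * p⁻¹ ∈ MulAut.conj p • B := by
      rw [mem_conj]
      have e : p⁻¹ * (p * b * p⁻¹) * p = b := by group
      rwa [e]
    have h2 := hBS y hy h1
    rw [mem_conj] at h2
    have e : m⁻¹ * b * m = (y : G)⁻¹ * (p * b * p⁻¹) * y := by rw [hm]; group
    rwa [e]
  by_cases hcase : ∀ b ∈ B, MulAut.conj (m⁻¹ * b * m) • ρ = ρ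
  · -- `B` normalises `ρ^m ∋ x`: `[x, B] = ρ^m ∋ x`
    have h1 : {y : G | ∃ b ∈ B, cm x b = y} ⊆ ((MulAut.conj m • ρ : Subgroup G) : Set G) := by
      rintro y ⟨b, hb, rfl⟩
      have h2 : b ∈ normalizer ((MulAut.conj m • ρ : Subgroup G) : Set G) := by
        have h3 : MulAut.conj b • (MulAut.conj m • ρ) = MulAut.conj m • ρ := by
          rw [conj_conj]
          have e : b * m = m * (m⁻¹ * b * m) := by group
          rw [e, ← conj_conj, hcase b hb]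
        rw [mem_normalizer_iff]
        intro w
        constructor
        · intro hw
          rw [← h3, mem_conj]
          have e : b⁻¹ * (b * w * b⁻¹) * b = w := by group
          rwa [e]
        · intro hw
          rw [← h3, mem_conj] at hw
          have e : b⁻¹ * (b * w * b⁻¹) * b = w := by group
          rwa [e] at hw
      exact NOThreeL.Low.Key.c_mem_left hxρ h2
    have h2 : ((MulAut.conj m • ρ : Subgroup G) : Set G).ncard ≤ {y : G | ∃ b ∈ B, cm x b = y}.ncard := by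
      refine le_trans ?_ (h.wB x hxV hxE)
      have h3 : ((MulAut.conj m • ρ : Subgroup G) : Set G).ncard = Nat.card (MulAut.conj m • ρ : Subgroup G) :=
        (Nat.card_coe_set_eq _).symm
      rw [h3, NOne.Choice.card_conj]
      exact h.cardR
    have h3 := Set.eq_of_subset_of_ncard_le h1 h2 (Set.toFinite _)
    have h4 : x ∈ {y : G | ∃ b ∈ B, cm x b = y} := by
      rw [h3]
      exact hxρ
    obtain ⟨b, hb, hbx⟩ := h4
    apply hxE
    have h5 := h.toBH.c_memI hxV hb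
    rw [hbx] at h5
    exact h.toBH.I_le_E h5
  · push Not at hcase
    obtain ⟨b, hb, hbρ⟩ := hcase
    set t : G := m⁻¹ * b * m with ht
    have htS : t ∈ S := hBm b hb
    obtain ⟨i, hiN, hiR⟩ := h.perm t htS i₀
    rw [h.root] at hiR
    have hi : i ≠ i₀ := by
      rintro rfl
      exact hbρ (hiR.trans h.root)
    -- `v ↦ [v, t]` maps `N i₀` onto `D^(m⁻¹)`
    have hDm : ∀ v ∈ N i₀, cm v t ∈ MulAut.conj m⁻¹ • D := by
      intro v hv
      rw [mem_conj, inv_inv]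
      have h1 : m * v * m⁻¹ ∈ V := norm_conj_mem hmV (h.LV (h.NL _ hv))
      have h2 := h.memD _ h1 b hb
      have e : m * cm v t * m⁻¹ = cm (m * v * m⁻¹) b := by
        rw [ht, NOne.NearFF.c, NOne.NearFF.c]; group
      rwa [e]
    let f : N i₀ → (MulAut.conj m⁻¹ • D : Subgroup G) := fun v => ⟨cm v t, hDm v v.2⟩
    have hf : Function.Injective f := by
      rintro ⟨v, hv⟩ ⟨w, hw⟩ hvw
      have h1 : cm v t = cm w t := congrArg Subtype.val hvw
      have h2 : w⁻¹ * v = t * (w⁻¹ * v) * t⁻¹ := by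
        rw [NOne.NearFF.c, NOne.NearFF.c] at h1
        have h3 : w⁻¹ * (v * t * v⁻¹ * t⁻¹) * (t * v * t⁻¹) = w⁻¹ * (w * t * w⁻¹ * t⁻¹) * (t * v * t⁻¹) := by
          rw [h1]
        have e1 : w⁻¹ * (v * t * v⁻¹ * t⁻¹) * (t * v * t⁻¹) = w⁻¹ * v := by group
        have e2 : w⁻¹ * (w * t * w⁻¹ * t⁻¹) * (t * v * t⁻¹) = t * (w⁻¹ * v) * t⁻¹ := by group
        rwa [e1, e2] at h3
      have h3 : w⁻¹ * v ∈ N i₀ := mul_mem (inv_mem hw) hv
      have h4 : w⁻¹ * v ∈ N i := by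
        rw [← hiN, h2, mem_conj]
        have e : t⁻¹ * (t * (w⁻¹ * v) * t⁻¹) * t = w⁻¹ * v := by group
        rwa [e]
      have h5 : w⁻¹ * v ∈ N i ⊓ N i₀ := ⟨h4, h3⟩
      rw [h.ind i i₀ hi, mem_bot] at h5
      exact Subtype.ext (inv_mul_eq_one.1 h5).symm
    have hsurj : Function.Surjective f := by
      have h1 : Nat.card (MulAut.conj m⁻¹ • D : Subgroup G) ≤ Nat.card (N i₀) := by
        rw [NOne.Choice.card_conj]
        exact h.cardD.trans h.cardN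
      have h2 := (Nat.bijective_iff_injective_and_card f).2
        ⟨hf, le_antisymm (Nat.card_le_card_of_injective f hf) h1⟩
      exact h2.2
    -- `d ∈ ρ`
    obtain ⟨d, hd, hd1⟩ : ∃ d : G, d ∈ ρ ∧ d ≠ 1 := by
      by_contra hall
      push Not at hall
      exact h.r_ne_bot (eq_bot_iff.2 fun d hd => mem_bot.2 (hall d hd))
    obtain ⟨⟨v, hv⟩, hvd⟩ := hsurj ⟨m⁻¹ * d * m, by
      rw [mem_conj, inv_inv]
      have e : m * (m⁻¹ * d * m) * m⁻¹ = d := by group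
      rw [e]
      exact h.rD hd⟩
    have hvd' : cm v t = m⁻¹ * d * m := congrArg Subtype.val hvd
    -- the element of `N i₀` moved by `W^y`, `W^(yt)`
    have hdN : p * d * p⁻¹ ∈ N i₀ := hpN (by
      rw [mem_conj]
      have e : p⁻¹ * (p * d * p⁻¹) * p = d := by group
      rwa [e])
    have hde : (y : G) * cm v t * (y : G)⁻¹ = p * d * p⁻¹ := by
      rw [hvd', hm]; group
    have hvρ : v ∉ ρ := by
      intro hvρ
      have h1 : cm v t ∈ spanC ρ S := by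
        have h2 : t * v⁻¹ * t⁻¹ ∈ spanC ρ S := conj_le_spanC htS (by
          rw [mem_conj]
          have e : t⁻¹ * (t * v⁻¹ * t⁻¹) * t = v⁻¹ := by group
          rw [e]
          exact inv_mem hvρ)
        have e : cm v t = v * (t * v⁻¹ * t⁻¹) := by rw [NOne.NearFF.c]; group
        rw [e]
        exact mul_mem (le_spanC hvρ) h2
      have h2 : p * d * p⁻¹ ∈ spanC ρ P' := by
        rw [← hde]
        exact norm_conj_mem (norm_spanC ρ P' hy) (spanC_mono h.SP' h1)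
      have h3 : p * d * p⁻¹ ∈ spanC ρ S := h.Rs_inf_L ⟨h.NL _ hdN, h2⟩
      have h4 : p * d * p⁻¹ ∈ MulAut.conj p • ρ ⊓ spanC ρ S := by
        refine mem_inf.2 ⟨?_, h3⟩
        rw [mem_conj]
        have e : p⁻¹ * (p * d * p⁻¹) * p = d := by group
        rwa [e]
      rw [hpR, mem_bot] at h4
      apply hd1
      have e : d = p⁻¹ * (p * d * p⁻¹) * p := by group
      rw [e, h4]
      group
    obtain ⟨m1, m2⟩ := h.moves htS hi hiN hv hvρ
    have k1 := moves_conj (y : G) m1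
    have k2 := moves_conj (y : G) m2
    rw [hde] at k1 k2
    rw [conj_conj] at k2
    have r1 := h.root_of_moves hy hdN k1
    have r2 := h.root_of_moves (mul_mem hy (h.SP' htS)) hdN k2
    -- `ρ^y = ρ = ρ^(yt)`
    have r3 : MulAut.conj t • ρ = ρ := by
      have h1 : MulAut.conj (y : G)⁻¹ • (MulAut.conj ((y : G) * t) • ρ) = MulAut.conj (y : G)⁻¹ • (MulAut.conj (y : G) • ρ) := by
        rw [r1, r2]
      rwa [conj_conj, conj_conj, inv_mul_cancel, map_one, one_smul, inv_mul_cancel_left] at h1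
    exact hbρ r3

/-- `[e, b] = 1` for `e ∈ R*`, `b ∈ B_p` -/
theorem Rs_cent_B {p : G} (hpN : MulAut.conj p • ρ ≤ N i₀) (hpR : MulAut.conj p • ρ ⊓ spanC ρ S = ⊥)
    (hBS : ∀ g ∈ P', MulAut.conj p • B ≤ MulAut.conj g • S) (hE : spanC ρ P' ≤ MulAut.conj p • EE V F) {e b : G}
    (he : e ∈ spanC ρ P') (hb : b ∈ MulAut.conj p • B) : cm e b = 1 := by
  have h1 : cm e b ∈ MulAut.conj p • ρ := by
    rw [mem_conj]
    have h2 := h.cEB _ (mem_conj.1 (hE he)) _ (mem_conj.1 hb)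
    have e1 : p⁻¹ * cm e b * p = cm (p⁻¹ * e * p) (p⁻¹ * b * p) := by
      rw [NOne.NearFF.c, NOne.NearFF.c]; group
    rwa [e1]
  have hbS : b ∈ S := by
    have h2 := hBS 1 (one_mem P')
    rw [map_one, one_smul] at h2
    exact h2 hb
  have h2 : cm e b ∈ spanC ρ P' :=
    NOThreeL.Low.Key.c_mem_left he (norm_spanC ρ P' (h.SP' hbS))
  have h3 : cm e b ∈ MulAut.conj p • ρ ⊓ spanC ρ S :=
    mem_inf.2 ⟨h1, h.Rs_inf_L ⟨h.NL _ (hpN h1), h2⟩⟩
  rwa [hpR, mem_bot] at h3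

/-- `R* ≤ I_p` -/
theorem Rs_le_conjB {p : G} (hp : p ∈ P) (hpN : MulAut.conj p • ρ ≤ N i₀) (hpR : MulAut.conj p • ρ ⊓ spanC ρ S = ⊥)
    (hBS : ∀ g ∈ P', MulAut.conj p • B ≤ MulAut.conj g • S) (hE : spanC ρ P' ≤ MulAut.conj p • EE V F) :
    spanC ρ P' ≤ MulAut.conj p • (V ⊓ B) := by
  intro e he
  have hV : p⁻¹ * e * p ∈ V := by
    rw [← mem_conj, conj_eq_of_norm' (h.PV hp)]
    exact h.Rs_le_V he
  rw [mem_conj]
  refine mem_inf.2 ⟨hV, h.centB (mem_inf.2 ⟨hV, ?_⟩)⟩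
  rw [mem_centralizer_iff]
  intro b hb
  have h1 := comm_of_c (h.Rs_cent_B hpN hpR hBS hE he (b := p * b * p⁻¹) (by
    rw [mem_conj]
    have e1 : p⁻¹ * (p * b * p⁻¹) * p = b := by group
    rwa [e1]))
  calc b * (p⁻¹ * e * p) = p⁻¹ * (p * b * p⁻¹ * e) * p := by group
    _ = p⁻¹ * (e * (p * b * p⁻¹)) * p := by rw [h1]
    _ = p⁻¹ * e * p * b := by group

/-- `L R*` is `P`-invariant -/
theorem norm_T {p : G} (hp : p ∈ P) (hgen : P ≤ S ⊔ MulAut.conj p • WW V F)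
    (hI : spanC ρ P' ≤ MulAut.conj p • (V ⊓ B)) : P ≤ normalizer ((L ⊔ spanC ρ P' : Subgroup G) : Set G) := by
  refine hgen.trans (sup_le ?_ ?_)
  · refine norm_of_conj_le fun s hs => ?_
    rw [Subgroup.smul_sup, conj_eq_of_norm' (h.PL (h.SP hs)), conj_eq_of_norm' (norm_spanC ρ P' (h.SP' hs))]
  · refine norm_of_conj_le fun s hs => ?_
    rw [Subgroup.smul_sup]
    have hsP : s ∈ P := by
      rw [mem_conj] at hs
      have h1 : p * (p⁻¹ * s * p) * p⁻¹ ∈ P := mul_mem (mul_mem hp (h.SP (h.WS hs))) (inv_mem hp)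
      have e : p * (p⁻¹ * s * p) * p⁻¹ = s := by group
      rwa [e] at h1
    refine sup_le ?_ ?_
    · rw [conj_eq_of_norm' (h.PL hsP)]
      exact le_sup_left
    · intro x hx
      rw [mem_conj] at hx
      -- `x = s r s⁻¹`
      set r := s⁻¹ * x * s with hr
      have h1 : cm r s ∈ L := by
        have h2 := h.cIW _ (mem_conj.1 (hI hx)) _ (mem_conj.1 hs)
        have h3 : p * cm (p⁻¹ * r * p) (p⁻¹ * s * p) * p⁻¹ ∈ L :=
          norm_conj_mem (h.PL hp) (h.r_le_L h2)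
        have e : p * cm (p⁻¹ * r * p) (p⁻¹ * s * p) * p⁻¹ = cm r s := by
          rw [NOne.NearFF.c, NOne.NearFF.c]; group
        rwa [e] at h3
      have e : x = (cm r s)⁻¹ * r := by rw [NOne.NearFF.c, hr]; group
      rw [e]
      exact mul_mem (inv_mem (mem_sup_left h1)) (mem_sup_right hx)

/-- **(A2)** `R* ≤ L` -/
theorem a2 (cvq : V ⊓ centralizer ((S ⊓ centralizer (L : Set G) : Subgroup G) : Set G) ≤ L)
    (irr : ∀ X : Subgroup G, X ≤ V → P ≤ normalizer (X : Set G) → X ≠ ⊥ → L ≤ X)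
    (hT : P ≤ normalizer ((L ⊔ spanC ρ P' : Subgroup G) : Set G)) : spanC ρ P' ≤ L := by
  set Q : Subgroup G := S ⊓ centralizer (L : Set G) with hQ
  set T : Subgroup G := L ⊔ spanC ρ P' with hTd
  have hTV : T ≤ V := sup_le h.LV h.Rs_le_V
  have hcn : spanC ρ P' ≤ normalizer (L : Set G) :=
    (comm_mono h.toHyp.comm h.Rs_le_V h.LV).trans (centralizer_le_normalizer _)
  -- `X = [T, Q]`
  set X : Subgroup G := closure {y | ∃ u ∈ T, ∃ q ∈ Q, y = cm u q} with hX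
  have hXc : X ≤ spanC ρ P' := by
    rw [hX, closure_le]
    rintro y ⟨u, hu, q, hq, rfl⟩
    obtain ⟨l, hl, x, hx, rfl⟩ := mem_sup_of_norm hcn hu
    have e1 : cm (l * x) q = l * (x * (q * x⁻¹ * q⁻¹)) * (q * l⁻¹ * q⁻¹) := by rw [NOne.NearFF.c]; group
    have e2 : q * l⁻¹ * q⁻¹ = l⁻¹ := by
      have := mem_centralizer_iff.1 hq.2 l⁻¹ (inv_mem hl)
      rw [← this, mul_inv_cancel_right]
    have h2 : q * x⁻¹ * q⁻¹ ∈ spanC ρ P' := norm_conj_mem (norm_spanC ρ P' (h.SP' hq.1)) (inv_mem hx)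
    have h3 : x * (q * x⁻¹ * q⁻¹) ∈ spanC ρ P' := mul_mem hx h2
    have e3 : l * (x * (q * x⁻¹ * q⁻¹)) * l⁻¹ = x * (q * x⁻¹ * q⁻¹) := by
      rw [h.toHyp.V_comm (h.LV hl) (h.Rs_le_V h3), mul_inv_cancel_right]
    rw [SetLike.mem_coe, e1, e2, e3]
    exact h3
  have hPX : P ≤ normalizer (X : Set G) := by
    have key : ∀ t ∈ P, ∀ x ∈ X, t * x * t⁻¹ ∈ X := by
      intro t ht x hx
      induction hx using closure_induction with
      | mem x hx =>
        obtain ⟨u, hu, q, hq, rfl⟩ := hx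
        refine subset_closure ⟨t * u * t⁻¹, norm_conj_mem (hT ht) hu, t * q * t⁻¹,
          norm_conj_mem (h.PQ ht) hq, ?_⟩
        rw [NOne.NearFF.c, NOne.NearFF.c]
        group
      | one => rw [mul_one, mul_inv_cancel]; exact one_mem _
      | mul x y _ _ hx hy =>
        have e : t * (x * y) * t⁻¹ = t * x * t⁻¹ * (t * y * t⁻¹) := by group
        rw [e]
        exact mul_mem hx hy
      | inv x _ hx =>
        have e : t * x⁻¹ * t⁻¹ = (t * x * t⁻¹)⁻¹ := by group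
        rw [e]
        exact inv_mem hx
    intro t ht
    rw [mem_normalizer_iff]
    intro x
    refine ⟨key t ht x, fun hx => ?_⟩
    have h1 := key _ (inv_mem ht) _ hx
    have e : t⁻¹ * (t * x * t⁻¹) * t⁻¹⁻¹ = x := by group
    rwa [e] at h1
  have hX1 : X = ⊥ := by
    by_contra hne
    have h1 := (irr X (hXc.trans h.Rs_le_V) hPX hne).trans hXc
    apply h.mov
    intro w hw
    rw [mem_centralizer_iff]
    intro l hl
    exact Hyp.F_comm (h.Rs_le_F (h1 hl)) (Hyp.W_le_X hw)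
  refine le_trans (le_inf h.Rs_le_V fun x hx => ?_) cvq
  rw [mem_centralizer_iff]
  intro q hq
  have h1 : cm x q ∈ X := subset_closure ⟨x, mem_sup_right hx, q, hq, rfl⟩
  rw [hX1, mem_bot] at h1
  exact (comm_of_c h1).symm

/-- **(A)** `R* = R₀` -/
theorem Rs_eq {p : G} (hp : p ∈ P) (hpN : MulAut.conj p • ρ ≤ N i₀) (hpR : MulAut.conj p • ρ ⊓ spanC ρ S = ⊥)
    (hgen : P ≤ S ⊔ MulAut.conj p • WW V F) (hBS : ∀ g ∈ P', MulAut.conj p • B ≤ MulAut.conj g • S)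
    (cvq : V ⊓ centralizer ((S ⊓ centralizer (L : Set G) : Subgroup G) : Set G) ≤ L)
    (irr : ∀ X : Subgroup G, X ≤ V → P ≤ normalizer (X : Set G) → X ≠ ⊥ → L ≤ X) :
    spanC ρ P' = spanC ρ S := by
  have h1 := h.a1 hp hpN hpR hBS
  have h2 := h.a2 cvq irr (h.norm_T hp hgen (h.Rs_le_conjB hp hpN hpR hBS h1))
  exact le_antisymm ((le_inf h2 le_rfl).trans h.Rs_inf_L) (spanC_mono h.SP')

/-- **(A)** `P'` normalises `R₀` -/
theorem norm_R₀ (hR : spanC ρ P' = spanC ρ S) : P' ≤ normalizer ((spanC ρ S : Subgroup G) : Set G) := by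
  rw [← hR]
  exact norm_spanC ρ P'

/-- `c ≤ R₀` -/
theorem c_le {Z : Subgroup G} (hR : spanC ρ P' = spanC ρ S) (hZ : Z ≤ spanC ρ S)
    (hc : ∀ X : Subgroup G, P' ≤ normalizer (X : Set G) → Z ≤ X → c ≤ X) : c ≤ spanC ρ S :=
  hc _ (h.norm_R₀ hR) hZ

/-- `B₀ = C_S(R₀)` is normal in `P'` -/
theorem norm_B₀ (hR : spanC ρ P' = spanC ρ S) (hcR : c ≤ spanC ρ S)
    (PQ' : P' ≤ normalizer ((S ⊓ centralizer (c : Set G) : Subgroup G) : Set G)) :
    P' ≤ normalizer ((S ⊓ centralizer ((spanC ρ S : Subgroup G) : Set G) : Subgroup G) : Set G) := by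
  have h1 : S ⊓ centralizer ((spanC ρ S : Subgroup G) : Set G) =
      (S ⊓ centralizer (c : Set G)) ⊓ centralizer ((spanC ρ S : Subgroup G) : Set G) := by
    refine le_antisymm (le_inf (le_inf inf_le_left ?_) inf_le_right) (le_inf (inf_le_left.trans inf_le_left) inf_le_right)
    exact inf_le_right.trans (centralizer_le hcR)
  rw [h1]
  refine norm_of_conj_le fun p hp => ?_
  rw [Subgroup.smul_inf, conj_eq_of_norm' (PQ' hp)]
  refine inf_le_inf_left _ ?_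
  rw [NOne.Flat.conj_centralizer, conj_eq_of_norm' (h.norm_R₀ hR hp)]

/-- `Q ≤ B₀` -/
theorem Q_le_B₀ : S ⊓ centralizer (L : Set G) ≤ S ⊓ centralizer ((spanC ρ S : Subgroup G) : Set G) :=
  inf_le_inf_left _ (centralizer_le h.R₀_le_L)

/-- `B_x ≤ Q ≤ B₀` for `x ∈ P` -/
theorem conjB_le_B₀ {x : G} (hx : x ∈ P) :
    MulAut.conj x • B ≤ S ⊓ centralizer ((spanC ρ S : Subgroup G) : Set G) := (h.conjB_le_Q hx).trans h.Q_le_B₀

/-- `W^k ≤ B₀` for `k ∈ P'` -/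
theorem conjW_le_B₀ {k : G} (hk : k ∈ P') :
    MulAut.conj k • WW V F ≤ S ⊓ centralizer ((spanC ρ S : Subgroup G) : Set G) := le_inf (h.WS' k hk) (h.cent_R₀ hk)

end Sit

end Cfsg.Agent.Omega.NO3S.ThmWA
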